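import Cfsg.Agent.F2C.Defs
import Cfsg.Agent.F2C.Oq
import Cfsg.Agent.F2C.Cj
import Cfsg.Agent.S0042
import Cfsg.Agent.S0035

set_option autoImplicit false

namespace Cfsg.Agent.F2C
open Subgroup

variable {G : Type*} [Group G] [Finite G]

omit [Finite G] in
theorem geo_step (L : Subgroup G) (F : Set (Subgroup G)) (hL : ∀ M ∈ F, L ≤ M)
    (hcov : ∀ g : G, ∃ M ∈ F, g ∈ M) (hint : ∀ M ∈ F, ∀ M' ∈ F, M ≠ M' → M ⊓ M' ≤ L)
    {g n : G} (hg : g ∉ L) (hn : n ∈ L) (hn' : g⁻¹ * n * g ∈ L) {M0 : Subgroup G} (h0 : M0 ∈ F)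
    (hg0 : g ∈ M0) {c : G} (hc : c ∉ M0) : c⁻¹ * n * c ∈ L := by
  obtain ⟨M, hM, hcM⟩ := hcov c
  obtain ⟨M', hM', hcM'⟩ := hcov (g⁻¹ * c)
  have hne : M ≠ M' := by
    rintro rfl
    have hgM : g ∈ M := by
      have h1 : c * (g⁻¹ * c)⁻¹ ∈ M := M.mul_mem hcM (M.inv_mem hcM')
      simpa using h1
    by_cases hMM : M = M0
    · exact hc (hMM ▸ hcM)
    · exact hg (hint M hM M0 h0 hMM ⟨hgM, hg0⟩)
  refine hint M hM M' hM' hne ⟨?_, ?_⟩
  · exact M.mul_mem (M.mul_mem (M.inv_mem hcM) (hL M hM hn)) hcM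
  · have h1 : (g⁻¹ * c)⁻¹ * (g⁻¹ * n * g) * (g⁻¹ * c) ∈ M' :=
      M'.mul_mem (M'.mul_mem (M'.inv_mem hcM') (hL M' hM' hn')) hcM'
    have h2 : (g⁻¹ * c)⁻¹ * (g⁻¹ * n * g) * (g⁻¹ * c) = c⁻¹ * n * c := by group
    exact h2 ▸ h1

theorem geo (L : Subgroup G) (F : Set (Subgroup G)) (hL : ∀ M ∈ F, L ≤ M) (hne : ∀ M ∈ F, M ≠ ⊤)
    (hcov : ∀ g : G, ∃ M ∈ F, g ∈ M) (hint : ∀ M ∈ F, ∀ M' ∈ F, M ≠ M' → M ⊓ M' ≤ L)
    {g n : G} (hg : g ∉ L) (hn : n ∈ L) (hn' : g⁻¹ * n * g ∈ L) : n ∈ L.normalCore := by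
  obtain ⟨M0, h0, hg0⟩ := hcov g
  have key : ∀ c : G, c⁻¹ * n * c ∈ L := by
    intro c
    by_cases hc : c ∈ M0
    · obtain ⟨c', hc'⟩ : ∃ c' : G, c' ∉ M0 := by
        by_contra h
        push Not at h
        exact hne M0 h0 (eq_top_iff.mpr fun a _ => h a)
      have h1 := geo_step L F hL hcov hint hg hn hn' h0 hg0 hc'
      obtain ⟨M1, hM1, hcM1⟩ := hcov c'
      have hcL : c' ∉ L := fun h => hc' (hL M0 h0 h)
      by_cases hc1 : c ∈ M1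
      · have hne1 : M0 ≠ M1 := by rintro rfl; exact hc' hcM1
        have hcL' : c ∈ L := hint M0 h0 M1 hM1 hne1 ⟨hc, hc1⟩
        exact L.mul_mem (L.mul_mem (L.inv_mem hcL') hn) hcL'
      · exact geo_step L F hL hcov hint hcL hn h1 hM1 hcM1 hc1
    · exact geo_step L F hL hcov hint hg hn hn' h0 hg0 hc
  intro b
  simpa using key b⁻¹

omit [Finite G] in
theorem geo_nm_of_normal (K : Subgroup G) [hK : K.Normal] (H : Subgroup G) : H ≤ Nm K := by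
  rw [show Nm K = ⊤ from normalizer_eq_top_iff.mpr hK]
  exact le_top

theorem Ctx.geo_Oq_bot {p : ℕ} {x : G} (c : Ctx p x) (K : Subgroup G) [hK : K.Normal] {s : ℕ}
    (hs : s.Prime) : Oq s K = ⊥ := by
  haveI := Fact.mk hs
  refine c.fit _ ?_ (Oq_pgroup hs K).isNilpotent
  rw [← normalizer_eq_top_iff, eq_top_iff]
  exact (geo_nm_of_normal K ⊤).trans (Nm_le_Nm_Oq s K)

theorem Ctx.core_bot {p : ℕ} {x : G} (c : Ctx p x) {L : Subgroup G} (hL : L ≠ ⊤) (hx : x ∈ L) :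
    L.normalCore = ⊥ := by
  obtain ⟨W, N, hF, hN⟩ := c.good L hL
  have hxN : x ∈ N := hN x hx (IsConj.refl x)
  set K := L.normalCore with hK
  haveI hKn : K.Normal := normalCore_normal L
  have hKL : K ≤ L := normalCore_le L
  have hW : W ⊓ K = ⊥ := by
    rw [eq_bot_iff]
    have hnil : Group.IsNilpotent ↥(W ⊓ K) := by
      haveI := hF.nil
      exact nilpotent_of_mulEquiv (subgroupOfEquivOfLe (inf_le_left : W ⊓ K ≤ W))
    refine nil_le hnil fun s hs _ => ?_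
    rw [← c.geo_Oq_bot K hs]
    refine Oq_le_of_Nm hs inf_le_right ?_
    exact (le_inf (hKL.trans hF.nw) (geo_nm_of_normal K K)).trans (Nm_inf_Nm_le_inf W K)
  have hNK : N ⊓ K = ⊥ := by
    rw [eq_bot_iff, ← c.geo_Oq_bot K c.hp]
    refine le_Oq ?_ inf_le_right ?_
    · rintro ⟨g, hgN, hgK⟩
      obtain ⟨k, hk⟩ := hF.pw g hgN
      refine ⟨k, Subtype.ext ?_⟩
      have h1 : g ^ p ^ k ∈ W ⊓ K := ⟨hk, K.pow_mem hgK _⟩
      rw [hW] at h1
      simpa using h1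
    · exact (le_inf (hKL.trans hF.nn) (geo_nm_of_normal K K)).trans (Nm_inf_Nm_le_inf N K)
  have hxC : x ∈ Ce K := by
    rw [mem_centralizer_iff]
    intro k hk
    have h1 : k * x * k⁻¹ * x⁻¹ ∈ N ⊓ K := by
      refine ⟨N.mul_mem ?_ (N.inv_mem hxN), ?_⟩
      · exact (mem_normalizer_iff.mp (hF.nn (hKL hk)) x).mp hxN
      · have h2 : x * k⁻¹ * x⁻¹ ∈ K := hKn.conj_mem _ (K.inv_mem hk) x
        have h3 := K.mul_mem hk h2
        simpa [mul_assoc] using h3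
    rw [hNK, mem_bot] at h1
    calc k * x = k * x * k⁻¹ * x⁻¹ * (x * k) := by group
      _ = x * k := by rw [h1, one_mul]
  have hCn : (Ce K).Normal := by
    rw [← normalizer_eq_top_iff, eq_top_iff]
    exact (geo_nm_of_normal K ⊤).trans (Nm_le_Nm_Ce K)
  have hC : Ce K = ⊤ := by
    rw [eq_top_iff, ← c.ncl]
    exact normalClosure_le_normal (by simpa using hxC)
  refine c.fit K hKn ?_
  haveI : IsMulCommutative K := ⟨⟨fun a b => Subtype.ext ?_⟩⟩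
  · letI : CommGroup K := { (inferInstance : Group K) with mul_comm := fun a b => mul_comm' a b }
    exact CommGroup.isNilpotent
  · have h1 : (b : G) ∈ Ce K := hC ▸ mem_top _
    exact mem_centralizer_iff.mp h1 a a.2

theorem Ctx.geo_false {p : ℕ} {x : G} (c : Ctx p x) (L : Subgroup G) (F : Set (Subgroup G))
    (hx : x ∈ L) (hL : ∀ M ∈ F, L ≤ M) (hne : ∀ M ∈ F, M ≠ ⊤)
    (hcov : ∀ g : G, ∃ M ∈ F, g ∈ M) (hint : ∀ M ∈ F, ∀ M' ∈ F, M ≠ M' → M ⊓ M' ≤ L) : False := by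
  obtain ⟨M0, h0, -⟩ := hcov 1
  have hLt : L ≠ ⊤ := fun h => hne M0 h0 (eq_top_iff.mpr (h ▸ hL M0 h0))
  have hx1 : x ≠ 1 := by
    rintro rfl
    have h1 := c.ord
    rw [orderOf_one] at h1
    exact c.hp.one_lt.ne h1
  have hcore := c.core_bot hLt hx
  have hFr : Cfsg.IsFrobeniusComplement L := by
    refine ⟨fun h => hx1 (by simpa [h] using hx), hLt, fun g hg => ?_⟩
    rw [eq_bot_iff, ← hcore]
    rintro n ⟨hn, hn'⟩
    refine geo L F hL hne hcov hint hg hn ?_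
    have h1 := mem_pointwise_smul_iff_inv_smul_mem.mp hn'
    simpa using h1
  obtain ⟨N, hN, hNn, hnil⟩ := Cfsg.Agent.S0042.result L hFr
  obtain ⟨N', hN', -, hc⟩ := Cfsg.Agent.S0035.result L hFr
  have hNN : N' = N := SetLike.coe_injective (hN'.trans hN.symm)
  rw [hNN, c.fit N hNn hnil] at hc
  exact hLt (isComplement'_bot_left.mp hc)

end Cfsg.Agent.F2C
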