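import Cfsg.Agent.F2C.Defs
import Cfsg.Agent.F2C.CtxB
import Cfsg.Agent.F2C.Four
import Cfsg.Agent.S0215
import Cfsg.Agent.S0205
import Cfsg.Agent.H42.ZStar

set_option autoImplicit false

namespace Cfsg.Agent.F2C
open Subgroup

variable {G : Type*} [Group G] [Finite G]

omit [Finite G] in
theorem Two1.solv_bot (fit : ∀ N : Subgroup G, N.Normal → Group.IsNilpotent N → N = ⊥)
    {N : Subgroup G} (hN : N.Normal) (hs : Group.IsSolvable N) : N = ⊥ := by
  obtain ⟨n, hn⟩ := hs.solvable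
  have hnorm : ∀ k : ℕ, ((derivedSeries N k).map N.subtype).Normal := by
    intro k
    induction k with
    | zero =>
      rw [derivedSeries_zero, ← MonoidHom.range_eq_map, range_subtype]
      exact hN
    | succ k ih =>
      rw [derivedSeries_succ, map_commutator]
      exact commutator_normal _ _
  have step : ∀ k : ℕ, (derivedSeries N (k + 1)).map N.subtype = ⊥ →
      (derivedSeries N k).map N.subtype = ⊥ := by
    intro k hk
    rw [derivedSeries_succ, map_commutator, commutator_eq_bot_iff_le_centralizer] at hk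
    refine fit _ (hnorm k) ?_
    have : IsMulCommutative ((derivedSeries N k).map N.subtype) :=
      le_centralizer_iff_isMulCommutative.mp hk
    open scoped IsMulCommutative in exact CommGroup.isNilpotent
  have down : ∀ k : ℕ, (derivedSeries N k).map N.subtype = ⊥ → N = ⊥ := by
    intro k
    induction k with
    | zero =>
      intro h
      rwa [derivedSeries_zero, ← MonoidHom.range_eq_map, range_subtype] at h
    | succ k ih => exact fun h => ih (step k h)
  exact down n (by rw [hn, Subgroup.map_bot])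

theorem Ctx.partner {x : G} (c : Ctx 2 x) : ∃ y : G, IsConj x y ∧ x ≠ y ∧ x * y = y * x := by
  by_contra hcon
  have hiso : Cfsg.IsIsolatedInvolution x := by
    refine ⟨c.ord, fun g hg => ?_⟩
    by_contra hne
    exact hcon ⟨g * x * g⁻¹, isConj_iff.mpr ⟨g, rfl⟩, fun e => hne e.symm, hg.eq⟩
  obtain ⟨N, hN, hodd, hc⟩ := H42.zstar hiso
  have hb : N = ⊥ := Two1.solv_bot c.fit hN (S0205.result hodd)
  refine c.Cx_ne c.ne_one (eq_top_iff.mpr fun g _ => mem_Cx.mpr ?_)
  have h := hc g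
  rw [hb, mem_bot] at h
  calc g * x = (x * g * x⁻¹ * g⁻¹) * (g * x) := by rw [h, one_mul]
    _ = x * g := by group

theorem Ctx.star_two {q : ℕ} {x y : G} (c : Ctx 2 x) (hq : q.Prime) (hq2 : q ≠ 2) (hy : IsConj x y)
    (hne : x ≠ y) (hxy : x * y = y * x) {R : Subgroup G} (hR : IsPGroup q R) (hn : gen x y ≤ Nm R) :
    ⁅R, gen x y⁆ ⊓ Ce (gen x y) ≤ Oq q (Ce (gen x y)) := by
  have cy : Ctx 2 y := c.of_isConj hy
  have hx2 : x * x = 1 := H8.mul_self_of_orderOf_two c.ord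
  refine four hq hq2 c.ord cy.ord hne hxy hR hn fun e he => ?_
  have hx : x ∈ gen x y := subset_closure (by simp)
  have hy' : y ∈ gen x y := subset_closure (by simp)
  have he1 : e ≠ 1 ∧ e ∈ gen x y ∧ x * e = e * x ∧ y * e = e * y := by
    simp only [Set.mem_insert_iff, Set.mem_singleton_iff] at he
    rcases he with rfl | rfl | rfl
    · exact ⟨c.ne_one, hx, rfl, hxy.symm⟩
    · exact ⟨cy.ne_one, hy', hxy, rfl⟩
    · refine ⟨fun h => hne ?_, mul_mem hx hy', ?_, ?_⟩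
      · calc x = x * (x * y) := by rw [h, mul_one]
          _ = y := by rw [← mul_assoc, hx2, one_mul]
      · rw [mul_assoc, hxy]
      · rw [← mul_assoc, hxy, mul_assoc, hxy]
  obtain ⟨e1, eE, ex, ey⟩ := he1
  have hE : gen x y ≤ Cx e := by
    rw [closure_le]
    intro g hg
    simp only [Set.mem_insert_iff, Set.mem_singleton_iff] at hg
    rcases hg with rfl | rfl
    · exact mem_Cx.mpr ex
    · exact mem_Cx.mpr ey
  have h1 : ⁅R ⊓ Cx e, gen x y⁆ ≤ Oq q (Cx e) := by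
    refine c.b1E hq hq2 (S := {x, y}) ?_ (c.Cx_ne e1) hE (hR.to_le inf_le_left) inf_le_right ?_
    · intro b hb
      simp only [Set.mem_insert_iff, Set.mem_singleton_iff] at hb
      rcases hb with rfl | rfl
      · exact IsConj.refl _
      · exact hy
    · exact (le_inf hn (hE.trans (Cx_le_Nm_Cx e))).trans (Nm_inf_Nm_le_inf _ _)
  have h2 : Ce (gen x y) ≤ Cx e := centralizer_le (by simpa using eE)
  exact (inf_le_inf_right _ h1).trans (Oq_inf_le hq h2)

omit [Finite G] in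
theorem Two1.mem_sq {q : ℕ} (hq : q.Prime) (hq2 : q ≠ 2) {d : G} (hd : PE q d) :
    d ∈ zpowers (d * d) := by
  obtain ⟨k, hk⟩ := hd
  obtain ⟨m, hm⟩ : Odd (q ^ k) := (hq.odd_of_ne_two hq2).pow
  refine ⟨((m + 1 : ℕ) : ℤ), ?_⟩
  show (d * d) ^ ((m + 1 : ℕ) : ℤ) = d
  rw [zpow_natCast, ← pow_two, ← pow_mul]
  have : 2 * (m + 1) = q ^ k + 1 := by omega
  rw [this, pow_succ, hk, one_mul]

theorem Two1.qq_zpowers {q : ℕ} (hq : q.Prime) (hq2 : q ≠ 2) {x d : G} (hd : PE q d)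
    (hinv : x * d * x⁻¹ = d⁻¹) : QQ q x (zpowers d) := by
  have hxn : x ∈ Nm (zpowers d) := by
    rw [mem_Nm_iff_cj, cj_zpowers, hinv, zpowers_inv]
  refine ⟨?_, hxn, le_antisymm (comm_le_left ((zpowers_le).mpr hxn)) ?_⟩
  · obtain ⟨k, hk⟩ := hd
    rintro ⟨g, ⟨n, rfl⟩⟩
    refine ⟨k, Subtype.ext ?_⟩
    show (d ^ n) ^ q ^ k = 1
    rw [← zpow_natCast, ← zpow_mul, mul_comm, zpow_mul, zpow_natCast, hk, one_zpow]
  · rw [zpowers_le]
    refine (zpowers_le.mpr ?_ : zpowers (d * d) ≤ _) (Two1.mem_sq hq hq2 hd)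
    have h := commutator_mem_commutator (mem_zpowers d) (mem_zpowers x)
    have e : d * x * d⁻¹ * x⁻¹ = d * d := by
      calc d * x * d⁻¹ * x⁻¹ = d * (x * d * x⁻¹)⁻¹ := by group
        _ = d * d := by rw [hinv, inv_inv]
    rwa [commutatorElement_def, e] at h

theorem Ctx.inv_trick {q : ℕ} {x : G} (c : Ctx 2 x) (hq : q.Prime) (hq2 : q ≠ 2) {d e : G}
    (hd : PE q d) (hinv : x * d * x⁻¹ = d⁻¹) (he : e ∈ Cx x) :
    ∃ H : Subgroup G, H ≠ ⊤ ∧ x ∈ H ∧ e ∈ H ∧ d ∈ ⁅Oq q H, zpowers x⁆ := by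
  have hx : x ∈ gen x (d * x * d⁻¹) := subset_closure (by simp)
  have hx' : d * x * d⁻¹ ∈ gen x (d * x * d⁻¹) := subset_closure (by simp)
  have hdd : d * d ∈ gen x (d * x * d⁻¹) := by
    have e : d * d = (d * x * d⁻¹) * x⁻¹ := by
      calc d * d = d * (x * d * x⁻¹)⁻¹ := by rw [hinv, inv_inv]
        _ = _ := by group
    rw [e]
    exact mul_mem hx' (inv_mem hx)
  have hdm : d ∈ gen x (d * x * d⁻¹) := zpowers_le.mpr hdd (Two1.mem_sq hq hq2 hd)
  obtain ⟨-, h2, h3⟩ := ctrick he hdm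
  have hxH : x ∈ gen x (d * e) := subset_closure (by simp)
  have hQ := Two1.qq_zpowers hq hq2 hd hinv
  refine ⟨gen x (d * e), c.two _, hxH, h3, ?_⟩
  exact hQ.le_comm (c.qq_le hq hq2 (c.two _) hxH hQ (zpowers_le.mpr h2)) (mem_zpowers d)

theorem QQ.gen_inv {q : ℕ} {x : G} (hx : orderOf x = 2) {D : Subgroup G} (h : QQ q x D) :
    D ≤ closure {d : G | d ∈ D ∧ x * d * x⁻¹ = d⁻¹} := by
  have hx2 : x * x = 1 := H8.mul_self_of_orderOf_two hx
  have hxi : x⁻¹ = x := H8.inv_eq_of_orderOf_two hx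
  obtain ⟨-, hn, he⟩ := h
  refine he.ge.trans (commutator_le.mpr fun u hu t ht => ?_)
  have ht' : t = 1 ∨ t = x := by
    obtain ⟨n, rfl⟩ := ht
    show x ^ n = 1 ∨ x ^ n = x
    have h2 : x ^ (2 : ℤ) = 1 := by rw [zpow_two, hx2]
    rcases Int.even_or_odd' n with ⟨m, rfl | rfl⟩
    · left; rw [zpow_mul, h2, one_zpow]
    · right; rw [zpow_add, zpow_mul, h2, one_zpow, one_mul, zpow_one]
  rcases ht' with rfl | rfl
  · rw [commutatorElement_one_right]
    exact one_mem _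
  · refine subset_closure ⟨?_, ?_⟩
    · rw [← he]
      exact commutator_mem_commutator hu (mem_zpowers _)
    · rw [commutatorElement_def, hxi]
      calc t * (u * t * u⁻¹ * t) * t = t * u * t * u⁻¹ * (t * t) := by group
        _ = t * u * t * u⁻¹ := by rw [hx2, mul_one]
        _ = t⁻¹ * u * t⁻¹ * u⁻¹ := by rw [hxi]
        _ = (u * t * u⁻¹ * t)⁻¹ := by group

end Cfsg.Agent.F2C
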