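import Cfsg.Agent.F2C.Defs
import Cfsg.Agent.F2C.TI
import Cfsg.Agent.F2C.Two1
import Cfsg.Agent.S0058

set_option autoImplicit false

namespace Cfsg.Agent.F2C
open Subgroup

variable {G : Type*} [Group G] [Finite G]

namespace Two2

omit [Finite G] in
theorem memE {x y : G} (hx : x * x = 1) (hy : y * y = 1) (hxy : x * y = y * x) {g : G} (hg : g ∈ gen x y) :
    g = 1 ∨ g = x ∨ g = y ∨ g = x * y := by
  have e1 : ∀ a, x * (x * a) = a := fun a => by rw [← mul_assoc, hx, one_mul]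
  have e3 : ∀ a, y * (x * a) = x * (y * a) := fun a => by rw [← mul_assoc, ← hxy, mul_assoc]
  have ix : x⁻¹ = x := inv_eq_of_mul_eq_one_right hx
  have iy : y⁻¹ = y := inv_eq_of_mul_eq_one_right hy
  induction hg using closure_induction with
  | mem a ha => rcases ha with rfl | rfl <;> simp
  | one => simp
  | mul a b _ _ ha hb =>
    rcases ha with rfl | rfl | rfl | rfl <;> rcases hb with h | h | h | h <;> rw [h] <;>
      simp [mul_assoc, e1, e3, hx, hy, ← hxy]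
  | inv a _ ha => rcases ha with rfl | rfl | rfl | rfl <;> simp [ix, iy, ← hxy]

omit [Finite G] in
theorem sq_mem {q : ℕ} (hq : q.Prime) (hq2 : q ≠ 2) {d : G} (hd : PE q d) {K : Subgroup G} (h : d * d ∈ K) :
    d ∈ K := by
  obtain ⟨k, hk⟩ := hd
  obtain ⟨m, hm⟩ := (hq.odd_of_ne_two hq2).pow (n := k)
  rw [hm, pow_succ, pow_mul, sq] at hk
  rw [eq_inv_of_mul_eq_one_right hk]
  exact inv_mem (pow_mem h m)

omit [Finite G] in
theorem pe {q : ℕ} {D : Subgroup G} (h : IsPGroup q D) {d : G} (hd : d ∈ D) : PE q d :=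
  let ⟨k, hk⟩ := h ⟨d, hd⟩
  ⟨k, congrArg Subtype.val hk⟩

omit [Finite G] in
theorem inv_mem_comm {q : ℕ} (hq : q.Prime) (hq2 : q ≠ 2) {x d : G} (hd : PE q d) (h : x * d * x⁻¹ = d⁻¹)
    {R E : Subgroup G} (hR : d ∈ R) (hE : x ∈ E) : d ∈ ⁅R, E⁆ := by
  refine sq_mem hq hq2 hd ?_
  have e : d * d = d * x * d⁻¹ * x⁻¹ := by
    calc d * d = d * (x * d * x⁻¹)⁻¹ := by rw [h, inv_inv]
      _ = _ := by group
  rw [e]
  exact commutator_mem_commutator hR hE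

end Two2

open Two2

theorem Ctx.u1_two {q : ℕ} {x : G} (c : Ctx 2 x) (hq : q.Prime) (hq2 : q ≠ 2)
    {D₁ D₂ : Subgroup G} (h1 : QQ q x D₁) (h2 : QQ q x D₂) : IsPGroup q ↥(D₁ ⊔ D₂) := by
  obtain ⟨y, hy, hne, hxy⟩ := c.partner
  have cy := c.of_isConj hy
  have x2 : x * x = 1 := by rw [← sq, ← c.ord, pow_orderOf_eq_one]
  have y2 : y * y = 1 := by rw [← sq, ← cy.ord, pow_orderOf_eq_one]
  have mE := fun g => memE (g := g) x2 y2 hxy
  have xE : x ∈ gen x y := subset_closure (Or.inl rfl)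
  have yE : y ∈ gen x y := subset_closure (Or.inr rfl)
  have zE : zpowers x ≤ gen x y := zpowers_le.2 xE
  have sqE : ∀ g ∈ gen x y, g * g = 1 := fun g hg => by
    rcases mE g hg with rfl | rfl | rfl | rfl
    · simp
    · exact x2
    · exact y2
    · rw [mul_assoc, ← mul_assoc y, ← hxy, mul_assoc, y2, mul_one, x2]
  have pE : IsPGroup 2 (gen x y) := fun g => ⟨1, Subtype.ext (by simpa [sq] using sqE g g.2)⟩
  have cE : ∀ a ∈ gen x y, ∀ b ∈ gen x y, a * b = b * a := fun a ha b hb => by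
    rw [← inv_eq_of_mul_eq_one_right (sqE _ (mul_mem ha hb)), mul_inv_rev,
      inv_eq_of_mul_eq_one_right (sqE a ha), inv_eq_of_mul_eq_one_right (sqE b hb)]
  have xy1 : x * y ≠ 1 := fun e => hne (mul_left_cancel (x2.trans e.symm))
  have ncy : ¬ IsCyclic (gen x y) := fun ⟨g, hg⟩ => by
    have k : ∀ a : gen x y, a = 1 ∨ a = g := fun a => by
      obtain ⟨n, rfl⟩ := hg a
      have g2 : g ^ (2 : ℤ) = 1 := (zpow_two g).trans (Subtype.ext (sqE g g.2))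
      rcases Int.even_or_odd' n with ⟨m, rfl | rfl⟩
      · left; show g ^ (2 * m) = 1; rw [zpow_mul, g2, one_zpow]
      · right; show g ^ (2 * m + 1) = g; rw [zpow_add, zpow_mul, g2, one_zpow, one_mul, zpow_one]
    rcases k ⟨x, xE⟩ with a | a
    · exact c.ne_one (congrArg Subtype.val a)
    rcases k ⟨y, yE⟩ with b | b
    · exact cy.ne_one (congrArg Subtype.val b)
    exact hne (congrArg Subtype.val (a.trans b.symm))
  have ww : ∀ R : Subgroup G, IsPGroup q R → gen x y ≤ Nm R → WW q (gen x y) ⁅R, gen x y⁆ := fun R hR hn =>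
    ⟨hR.to_le (comm_le_left hn), (le_inf hn le_normalizer).trans (Nm_inf_Nm_le_comm _ _),
      c.star_two hq hq2 hy hne hxy hR hn⟩
  have ti : ∀ M M', MW q (gen x y) M → MW q (gen x y) M' → ∀ d, d ≠ 1 → d ∈ M → d ∈ M' → M = M' :=
    fun M M' hM hM' d d1 m m' => c.ti hq hq2 (S := {x, y})
      (by rintro b (rfl | rfl); exacts [IsConj.refl _, hy]) pE
      (fun R hR hn => c.star_two hq hq2 hy hne hxy hR hn) hM hM'
      fun e => d1 (mem_bot.1 (e ▸ (⟨m, m'⟩ : d ∈ M ⊓ M')))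
  have EC : ∀ e ∈ gen x y, gen x y ≤ Cx e := fun e he g hg => mem_Cx.2 (cE g hg e he)
  -- (a)
  have ha : ∀ d, PE q d → x * d * x⁻¹ = d⁻¹ → ∃ M, MW q (gen x y) M ∧ d ∈ M := fun d hd hi => by
    obtain ⟨H, -, xH, yH, m⟩ := c.inv_trick hq hq2 hd hi (e := y) (mem_Cx.2 hxy.symm)
    have EH : gen x y ≤ H := (closure_le H).2 (by rintro b (rfl | rfl); exacts [xH, yH])
    obtain ⟨M, hM, le⟩ := (ww _ (Oq_pgroup hq H) (EH.trans (le_Nm_Oq q H))).exists_MW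
    exact ⟨M, hM, le (commutator_mono le_rfl zE m)⟩
  -- (b)
  have hb0 : ∀ W, WW q (gen x y) W → ∀ e ∈ gen x y, e ≠ 1 → ¬ W ⊓ Cx e ≤ Cx x →
      ∃ d, d ≠ 1 ∧ d ∈ W ∧ d ∈ ⁅Oq q (Cx e), gen x y⁆ ∧ d ∈ Cx e ∧ x * d * x⁻¹ = d⁻¹ := fun W hW e he e1 n => by
    have xn : x ∈ Nm (W ⊓ Cx e) := Nm_inf_Nm_le_inf _ _ ⟨hW.2.1 xE, Cx_le_Nm_Cx e (EC e he xE)⟩
    have Q := qq_comm Nat.prime_two hq hq2 c.ord (hW.1.to_le inf_le_left) xn
    have le : ⁅W ⊓ Cx e, zpowers x⁆ ≤ W ⊓ Cx e := comm_le_left (zpowers_le.2 xn)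
    have le2 := (Q.le_comm (c.qq_le hq hq2 (c.Cx_ne e1) (EC e he xE) Q (le.trans inf_le_right))).trans
      (commutator_mono le_rfl zE)
    by_contra k
    push Not at k
    refine n (comm_eq_bot_iff.1 (le_bot_iff.1 ((Q.gen_inv c.ord).trans ((closure_le _).2 fun d hd => ?_))))
    by_contra d1
    exact k d d1 (le hd.1).1 (le2 hd.1) (le hd.1).2 hd.2
  have hb : ∀ W, WW q (gen x y) W → ∀ d, d ≠ 1 → d ∈ W → x * d * x⁻¹ = d⁻¹ → ∃ e, (e = y ∨ e = x * y) ∧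
      ∃ d, d ≠ 1 ∧ d ∈ W ∧ d ∈ ⁅Oq q (Cx e), gen x y⁆ ∧ d ∈ Cx e ∧ x * d * x⁻¹ = d⁻¹ := fun W hW d d1 m hi => by
    by_cases n1 : W ⊓ Cx y ≤ Cx x
    · by_cases n2 : W ⊓ Cx (x * y) ≤ Cx x
      · refine (d1 ?_).elim
        have : IsMulCommutative (gen x y) := ⟨⟨fun a b => Subtype.ext (cE a a.2 b b.2)⟩⟩
        have := Fact.mk hq
        have s := Cfsg.Agent.S0058.result (gen x y) W ncy hW.2.1
          (IsPGroup.coprime_card_of_ne 2 q hq2.symm _ _ pE hW.1)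
        have le : W ≤ Cx x := by
          rw [← s]
          refine iSup₂_le fun a ha => ?_
          rcases mE a ha.1 with rfl | rfl | rfl | rfl
          exacts [(ha.2 rfl).elim, inf_le_right, n1, n2]
        rw [← mem_Cx.1 (le m), mul_inv_cancel_right] at hi
        exact mem_bot.1 (sq_mem hq hq2 (pe hW.1 m) (mem_bot.2 (mul_eq_one_iff_eq_inv.2 hi)))
      · exact ⟨_, Or.inr rfl, hb0 W hW _ (mul_mem xE yE) xy1 n2⟩
    · exact ⟨_, Or.inl rfl, hb0 W hW _ yE cy.ne_one n1⟩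
  -- (c)
  have hc : ∀ d1 d2, PE q d1 → PE q d2 → d1 ∈ Cx y → d2 ∈ Cx (x * y) → x * d1 * x⁻¹ = d1⁻¹ →
      x * d2 * x⁻¹ = d2⁻¹ → ∃ M, MW q (gen x y) M ∧ d1 ∈ M ∧ d2 ∈ M := fun d1 d2 p1 p2 c1 c2 i1 i2 => by
    have i3 : y * d2 * y⁻¹ = d2⁻¹ := by
      have e : y = x * (x * y) := by rw [← mul_assoc, x2, one_mul]
      calc y * d2 * y⁻¹ = x * (x * y * d2 * (x * y)⁻¹) * x⁻¹ := by
            conv_lhs => rw [e]
            group
        _ = _ := by rw [← mem_Cx.1 c2, mul_inv_cancel_right, i2]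
    have i4 : y * d1 * y⁻¹ = d1 := by rw [← mem_Cx.1 c1, mul_inv_cancel_right]
    obtain ⟨H, -, yH, dH, m⟩ := cy.inv_trick hq hq2 p2 i3 c1
    have m' : d2 ∈ Oq q H := comm_le_left (zpowers_le.2 (le_Nm_Oq q H yH)) m
    have pz : IsPGroup q (zpowers d1) := by
      obtain ⟨k, hk⟩ := p1
      rintro ⟨_, n, rfl⟩
      exact ⟨k, Subtype.ext (by
        show (d1 ^ n) ^ q ^ k = 1
        rw [← zpow_natCast, ← zpow_mul, mul_comm, zpow_mul, zpow_natCast, hk, one_zpow])⟩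
    have pR : IsPGroup q (gen d1 d2) :=
      (pg_sup hq pz (Oq_pgroup hq H) (zpowers_le.2 (le_Nm_Oq q H dH))).to_le ((closure_le _).2 (by
        rintro b (rfl | rfl)
        exacts [mem_sup_left (mem_zpowers _), mem_sup_right m']))
    have m1 : d1 ∈ gen d1 d2 := subset_closure (Or.inl rfl)
    have m2 : d2 ∈ gen d1 d2 := subset_closure (Or.inr rfl)
    have nR : gen x y ≤ Nm (gen d1 d2) := (closure_le _).2 (by
      rintro b (rfl | rfl) <;> refine mem_Nm_of_cj_le ?_ <;> rw [cj_gen]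
      · rw [i1, i2]
        exact (closure_le _).2 (by rintro b (rfl | rfl); exacts [inv_mem m1, inv_mem m2])
      · rw [i4, i3]
        exact (closure_le _).2 (by rintro b (rfl | rfl); exacts [m1, inv_mem m2]))
    obtain ⟨M, hM, le⟩ := (ww _ pR nR).exists_MW
    exact ⟨M, hM, le (inv_mem_comm hq hq2 p1 i1 m1 xE), le (inv_mem_comm hq hq2 p2 i2 m2 xE)⟩
  have key : ∀ M M', MW q (gen x y) M → MW q (gen x y) M' → ∀ d d', d ≠ 1 → d' ≠ 1 → d ∈ M → d' ∈ M' →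
      x * d * x⁻¹ = d⁻¹ → x * d' * x⁻¹ = d'⁻¹ → M = M' := fun M M' hM hM' d d' n n' m m' i i' => by
    obtain ⟨e, he, a, a1, a2, a3, a4, a5⟩ := hb M hM.1 d n m i
    obtain ⟨e', he', b, b1, b2, b3, b4, b5⟩ := hb M' hM'.1 d' n' m' i'
    have k : ∃ M3, MW q (gen x y) M3 ∧ a ∈ M3 ∧ b ∈ M3 := by
      have s : ∀ e ∈ gen x y, a ∈ ⁅Oq q (Cx e), gen x y⁆ → b ∈ ⁅Oq q (Cx e), gen x y⁆ →
          ∃ M3, MW q (gen x y) M3 ∧ a ∈ M3 ∧ b ∈ M3 := fun e he u v => by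
        obtain ⟨M3, h3, le⟩ := (ww _ (Oq_pgroup hq _) ((EC e he).trans (le_Nm_Oq q _))).exists_MW
        exact ⟨M3, h3, le u, le v⟩
      rcases he with rfl | rfl <;> rcases he' with h | h <;> rw [h] at b3 b4
      · exact s _ yE a3 b3
      · exact hc a b (pe hM.1.1 a2) (pe hM'.1.1 b2) a4 b4 a5 b5
      · obtain ⟨M3, h3, u, v⟩ := hc b a (pe hM'.1.1 b2) (pe hM.1.1 a2) b4 a4 b5 a5
        exact ⟨M3, h3, v, u⟩
      · exact s _ (mul_mem xE yE) a3 b3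
    obtain ⟨M3, h3, u, v⟩ := k
    exact (ti M M3 hM h3 a a1 a2 u).trans (ti M' M3 hM' h3 b b1 b2 v).symm
  obtain ⟨W, pW, hW⟩ : ∃ W : Subgroup G, IsPGroup q W ∧ ∀ d, PE q d → x * d * x⁻¹ = d⁻¹ → d ∈ W := by
    by_cases e : ∃ d, d ≠ 1 ∧ PE q d ∧ x * d * x⁻¹ = d⁻¹
    · obtain ⟨d0, n0, p0, i0⟩ := e
      obtain ⟨M0, h0, m0⟩ := ha d0 p0 i0
      refine ⟨M0, h0.1.1, fun d pd i => ?_⟩
      by_cases n : d = 1
      · rw [n]; exact one_mem _
      obtain ⟨M, hM, m⟩ := ha d pd i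
      rwa [key M0 M h0 hM d0 d n0 n m0 m i0 i]
    · refine ⟨⊥, IsPGroup.of_bot, fun d pd i => mem_bot.2 ?_⟩
      by_contra n
      exact e ⟨d, n, pd, i⟩
  have le : ∀ D, QQ q x D → D ≤ W := fun D hD =>
    (hD.gen_inv c.ord).trans ((closure_le _).2 fun d hd => hW d (pe hD.1 hd.1) hd.2)
  exact pW.to_le (sup_le (le _ h1) (le _ h2))

end Cfsg.Agent.F2C
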