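import Cfsg.Agent.F2C.Defs
import Cfsg.Agent.F2C.UOdd
import Cfsg.Agent.F2C.Two2

set_option autoImplicit false

namespace Cfsg.Agent.F2C
open Subgroup

variable {G : Type*} [Group G] [Finite G]

namespace TT

omit [Finite G] in
theorem pw_sup {p : ℕ} {T Q : Subgroup G} (hT : IsPGroup p T) (hn : T ≤ Nm Q) {y : G}
    (hy : y ∈ Q ⊔ T) : ∃ k : ℕ, y ^ p ^ k ∈ Q := by
  have h1 : y ∈ ((Q ⊔ T : Subgroup G) : Set G) := hy
  rw [Subgroup.coe_mul_of_right_le_normalizer_left Q T hn] at h1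
  obtain ⟨u, hu, t, ht, rfl⟩ := h1
  obtain ⟨k, hk⟩ := hT ⟨t, ht⟩
  have hk' : t ^ p ^ k = 1 := by simpa using congrArg Subtype.val hk
  have key : ∀ n : ℕ, (u * t) ^ n * (t ^ n)⁻¹ ∈ Q := by
    intro n
    induction n with
    | zero => simp
    | succ n ih =>
      have e : (u * t) ^ (n + 1) * (t ^ (n + 1))⁻¹
          = ((u * t) ^ n * (t ^ n)⁻¹) * (t ^ n * u * (t ^ n)⁻¹) := by
        rw [pow_succ, pow_succ]; group
      rw [e]
      exact Q.mul_mem ih ((mem_normalizer_iff.mp (hn (T.pow_mem ht n)) u).mp hu)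
  refine ⟨k, ?_⟩
  have := key (p ^ k)
  simpa [hk'] using this

omit [Finite G] in
theorem gen_le {x y : G} {H : Subgroup G} (hx : x ∈ H) (hy : y ∈ H) : gen x y ≤ H := by
  rw [closure_le]
  rintro a (rfl | rfl)
  · exact hx
  · exact hy

omit [Finite G] in
theorem l_mem (x y : G) : x ∈ gen x y := subset_closure (by simp)

omit [Finite G] in
theorem r_mem (x y : G) : y ∈ gen x y := subset_closure (by simp)

omit [Finite G] in
theorem pe_of_ord {p : ℕ} {b : G} (h : orderOf b = p) : PE p b :=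
  ⟨1, by rw [pow_one, ← h, pow_orderOf_eq_one]⟩

end TT

theorem Ctx.u1 {p q : ℕ} {x : G} (c : Ctx p x) (hq : q.Prime) (hqp : q ≠ p) {Q D : Subgroup G}
    (hQ : MQ q x Q) (hD : QQ q x D) (h : Q ⊓ D ≠ ⊥) : D ≤ Q := by
  refine hQ.le_of_join hD ?_
  by_cases hp2 : p = 2
  · subst hp2
    exact c.u1_two hq hqp hQ.1 hD
  · exact c.u1_odd hp2 hq hqp hQ.1 hD h

theorem Ctx.tt {p q : ℕ} {x g : G} (c : Ctx p x) (hq : q.Prime) (hqp : q ≠ p) {Q : Subgroup G}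
    (hQ : MQ q x Q) (hT : IsPGroup p (gen x (g * x * g⁻¹))) (hn : g * x * g⁻¹ ∈ Nm Q)
    (h : ⁅Q, zpowers (g * x * g⁻¹)⁆ ≠ ⊥) : ⁅Q, zpowers (g * x * g⁻¹)⁆ ≤ cj g Q := by
  have hp := c.hp
  have hQq : IsPGroup q Q := hQ.1.1
  have hxN : x ∈ Nm Q := hQ.1.2.1
  have hcop : (Nat.card Q).Coprime p := cop_of_pg hp hq hqp hQq
  have hTN : gen x (g * x * g⁻¹) ≤ Nm Q := TT.gen_le hxN hn
  have hex : ∃ d ∈ Q, ¬ IsPGroup p (gen x (d * (g * x * g⁻¹) * d⁻¹)) := by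
    by_contra hcon
    push Not at hcon
    apply h
    rw [comm_eq_bot_iff]
    have h2 : Q ≤ (Q ⊓ Cx (g * x * g⁻¹)) ⊔ Phi Q := by
      intro u hu
      obtain ⟨v, hv, w, hw, rfl⟩ := cov' hp hT hcop hTN (TT.l_mem _ _) (TT.r_mem _ _) hu (hcon u hu)
      exact mul_mem (mem_sup_right (hQ.1.fix_le_Phi hp hq hqp c.ord hv)) (mem_sup_left hw)
    have h3 := eq_of_sup_Phi inf_le_left h2
    exact h3.symm.le.trans inf_le_right
  obtain ⟨d, hd, hK⟩ := hex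
  have eb : d * (g * x * g⁻¹) * d⁻¹ = (d * g) * x * (d * g)⁻¹ := by group
  have hbQT : d * (g * x * g⁻¹) * d⁻¹ ∈ Q ⊔ gen x (g * x * g⁻¹) :=
    mul_mem (mul_mem (mem_sup_left hd) (mem_sup_right (TT.r_mem _ _))) (mem_sup_left (inv_mem hd))
  have hdN : d ∈ Nm Q := le_normalizer hd
  have hbN : d * (g * x * g⁻¹) * d⁻¹ ∈ Nm Q := mul_mem (mul_mem hdN hn) (inv_mem hdN)
  rw [eb] at hK hbQT hbN
  have c' := c.cnj (d * g)
  set b' : G := (d * g) * x * (d * g)⁻¹ with hb'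
  have hKQT : gen x b' ≤ Q ⊔ gen x (g * x * g⁻¹) :=
    TT.gen_le (mem_sup_right (TT.l_mem _ _)) hbQT
  have hKN : gen x b' ≤ Nm Q := TT.gen_le hxN hbN
  have hK0q : IsPGroup q ↥(gen x b' ⊓ Q) := hQq.to_inf_right
  have hKK0 : gen x b' ≤ Nm (gen x b' ⊓ Q) :=
    (le_inf le_normalizer hKN).trans (Nm_inf_Nm_le_inf _ _)
  obtain ⟨a, ha, hP⟩ := cjP hp (cop_of_pg hp hq hqp hK0q) inf_le_left hKK0
    (fun y hy => by
      obtain ⟨k, hk⟩ := TT.pw_sup hT hTN (hKQT hy)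
      exact ⟨k, pow_mem hy _, hk⟩)
    (TT.l_mem x b') (TT.r_mem x b') (TT.pe_of_ord c.ord) (TT.pe_of_ord c'.ord)
  have hx0 : ⁅gen x b' ⊓ Q, zpowers x⁆ ≠ ⊥ := by
    rw [Ne, comm_eq_bot_iff]
    intro hle
    apply hK
    have h1 := pg_cj hP a⁻¹
    rw [cj_gen] at h1
    have e1 : a⁻¹ * x * a⁻¹⁻¹ = x := by
      have := mem_Cx.mp (hle ha)
      rw [inv_inv, mul_assoc, ← this]; group
    have e2 : a⁻¹ * (a * b' * a⁻¹) * a⁻¹⁻¹ = b' := by group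
    rwa [e1, e2] at h1
  have hb0 : ⁅gen x b' ⊓ Q, zpowers b'⁆ ≠ ⊥ := by
    rw [Ne, comm_eq_bot_iff]
    intro hle
    apply hK
    have e1 : a * b' * a⁻¹ = b' := by
      have := mem_Cx.mp (hle ha)
      rw [this]; group
    rwa [e1] at hP
  have hH : gen x (d * g) ≠ ⊤ := c.two _
  have hxH : x ∈ gen x (d * g) := TT.l_mem _ _
  have hgH : d * g ∈ gen x (d * g) := TT.r_mem _ _
  have hbH : b' ∈ gen x (d * g) := mul_mem (mul_mem hgH hxH) (inv_mem hgH)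
  have hO : gen x b' ⊓ Q ≤ Oq q (gen x (d * g)) :=
    c.gen_le hq hqp hH (IsConj.refl x) (isConj_iff.mpr ⟨d * g, rfl⟩) hxH hbH hK0q inf_le_left
  have hOq : QQ q x ⁅Oq q (gen x (d * g)), zpowers x⁆ :=
    qq_comm hp hq hqp c.ord (Oq_pgroup hq _) (le_Nm_Oq q _ hxH)
  have h1 : ⁅Oq q (gen x (d * g)), zpowers x⁆ ≤ Q := by
    refine c.u1 hq hqp hQ hOq ?_
    intro hb
    apply hx0
    rw [eq_bot_iff, ← hb]
    refine le_inf ?_ (commutator_mono hO le_rfl)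
    exact (comm_le_left (zpowers_le.mpr (hKK0 (TT.l_mem _ _)))).trans inf_le_right
  have h2 : ⁅Oq q (gen x (d * g)), zpowers b'⁆ ≤ cj (d * g) Q := by
    have h3 := cj_mono (d * g) h1
    rwa [cj_comm, cj_zpowers, mem_Nm_iff_cj.mp (le_Nm_Oq q _ hgH)] at h3
  have h4 : ⁅Q, zpowers b'⁆ ≤ cj (d * g) Q := by
    refine c'.u1 hq hqp (hQ.cnj (d * g)) (qq_comm hp hq hqp c'.ord hQq hbN) ?_
    intro hb
    apply hb0
    rw [eq_bot_iff, ← hb]
    exact le_inf ((commutator_mono hO le_rfl).trans h2) (commutator_mono inf_le_right le_rfl)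
  have h5 := cj_mono d⁻¹ h4
  rw [cj_comm, cj_zpowers, cj_eq_of_mem (inv_mem hd), ← cj_mul] at h5
  have e1 : d⁻¹ * b' * d⁻¹⁻¹ = g * x * g⁻¹ := by rw [hb']; group
  have e2 : d⁻¹ * (d * g) = g := by group
  rwa [e1, e2] at h5

theorem Ctx.Cx_le_LL {p : ℕ} {x : G} (c : Ctx p x) : Cx x ≤ LL p x := by
  intro g hg
  rw [mem_LL]
  intro q Q hq hqp hQ
  have e : g * x * g⁻¹ = x := by rw [mem_Cx.mp hg]; group
  by_cases hb : Q = ⊥
  · subst hb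
    rw [mem_Nm_iff_cj, cj_eq_bot]
  have hT : IsPGroup p (gen x (g * x * g⁻¹)) := by
    rw [e]
    have h1 : IsPGroup p (zpowers x) := by
      apply IsPGroup.of_card (n := 1)
      rw [Nat.card_zpowers, c.ord, pow_one]
    exact h1.to_le (TT.gen_le (mem_zpowers x) (mem_zpowers x))
  have h2 := c.tt hq hqp hQ hT (by rw [e]; exact hQ.1.2.1) (by rw [e, hQ.1.2.2]; exact hb)
  rw [e, hQ.1.2.2] at h2
  have h3 := cj_mono g⁻¹ h2
  rw [cj_inv_cj] at h3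
  simpa using inv_mem (mem_Nm_of_cj_le h3)

end Cfsg.Agent.F2C
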