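import Cfsg.Agent.F2C.Defs
import Cfsg.Agent.F2C.TT
import Cfsg.Agent.F2C.Bary

set_option autoImplicit false

namespace Cfsg.Agent.F2C
open Subgroup

variable {G : Type*} [Group G] [Finite G]


theorem Ctx.nb2 {p q r : ℕ} {x z : G} (c : Ctx p x) (hD : Del p x) (hq : q.Prime) (hqp : q ≠ p)
    (hr : r.Prime) (hrp : r ≠ p) (hqr : q ≠ r) {Q K : Subgroup G} (hQ : MQ q x Q) (hK : QQ r x K)
    (hZ : Q ⊓ Ce Q ≤ Cx x) (hz : z ∈ Q ⊓ Ce Q) (ho : orderOf z = q) (hn : z ∈ Nm K)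
    (hc : z ∉ Ce K) : False := by
  obtain ⟨k, -, T, hT, -, hzT, hH⟩ := bary c.hp hq hr hrp hqr.symm c.ord ho (hZ hz) hK hn hc
  have ic : ∀ g : G, IsConj x (g * x * g⁻¹) := fun g => isConj_iff.2 ⟨g, rfl⟩
  have key : Q ≤ (Q ⊓ Ce T) ⊔ Phi Q := fun u hu => by
    obtain ⟨W, -, hWc, -, -, hb', a, ha, hP⟩ := c.lemP (ic u) (ic k)
    obtain ⟨l, hl⟩ : ∃ l, l = u⁻¹ * a * k := ⟨_, rfl⟩
    have e1 : u * (l * x * l⁻¹) * u⁻¹ = a * (k * x * k⁻¹) * a⁻¹ := by rw [hl]; group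
    have e2 : u * (l * x * l⁻¹) * u⁻¹ = (u * l) * x * (u * l)⁻¹ := by group
    have hP' : IsPGroup p (gen x (l * x * l⁻¹)) := by
      have := pg_cj hP u⁻¹
      rw [cj_gen, ← e1] at this
      convert this using 3 <;> group
    have lN : l ∈ Nm Q := mem_LL.1 (hD l hP') q Q hq hqp hQ
    have z1 : l⁻¹ * z * l ∈ Cx x := by
      refine hZ ⟨?_, ?_⟩
      · simpa using (mem_normalizer_iff.1 (inv_mem lN) z).1 hz.1
      · simpa using (mem_normalizer_iff.1 (inv_mem (Nm_le_Nm_Ce Q lN)) z).1 hz.2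
    have z2 : z ∈ Cx (u * (l * x * l⁻¹) * u⁻¹) := by
      have h1 := mem_Cx.1 z1
      have h2 : u * z = z * u := hz.2 u hu
      rw [mem_Cx]
      calc z * (u * (l * x * l⁻¹) * u⁻¹) = (z * u) * (l * x * l⁻¹) * u⁻¹ := by group
        _ = u * l * (l⁻¹ * z * l * x) * l⁻¹ * u⁻¹ := by rw [← h2]; group
        _ = u * (l * x * l⁻¹) * u⁻¹ * (u * z) * u⁻¹ := by rw [h1]; group
        _ = u * (l * x * l⁻¹) * u⁻¹ * z := by rw [h2]; group
    have i2 : IsConj x (u * (l * x * l⁻¹) * u⁻¹) := e2 ▸ ic (u * l)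
    have c2 := c.of_isConj i2
    have n2 : u * (l * x * l⁻¹) * u⁻¹ ∈ Nm W := by
      rw [e1]
      exact mul_mem (mul_mem (le_normalizer ha) hb') (inv_mem (le_normalizer ha))
    obtain ⟨a', -, g1, g2⟩ := prep c.hp hWc c2.ord n2 (inv_mem ha)
    obtain ⟨m1, -, m2⟩ := ctrick z2 (g2 ▸ g1)
    have e3 : a' * (u * (l * x * l⁻¹) * u⁻¹) * a'⁻¹ = k * x * k⁻¹ := by rw [g2, e1]; group
    rw [e3] at m1
    obtain ⟨xH, TH⟩ := hH _ m1 m2
    have hne := c2.two (a' * z)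
    obtain ⟨k0, hk0, v, hv, w, hw, rfl⟩ := cov c.hp hP' (cop_of_pg c.hp hq hqp hQ.1.1)
      ((closure_le _).2 (by
        rintro _ (rfl | rfl)
        · exact hQ.1.2.1
        · exact mul_mem (mul_mem lN hQ.1.2.1) (inv_mem lN)))
      (subset_closure (Or.inl rfl)) (subset_closure (Or.inr rfl)) hu
    have q2 : QQ q (l * x * l⁻¹) Q := by
      have := hQ.1.cnj l
      rwa [mem_Nm_iff_cj.1 lN] at this
    have k1 := c.gen_le hq hqp hne (IsConj.refl x) i2 xH (subset_closure (Or.inl rfl))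
      (hQ.1.1.to_le (inf_le_right : _ ⊓ Q ≤ Q)) inf_le_left hk0
    have k2 : k0 ∈ Ce T := centralizer_le (c.qq_le hr hrp hne xH hT TH) (Oq_comm hq hr hqr _ k1)
    exact mul_mem (mul_mem (mem_sup_left ⟨hk0.2, k2⟩)
      (mem_sup_right (hQ.1.fix_le_Phi c.hp hq hqp c.ord hv)))
      (mem_sup_right (q2.fix_le_Phi c.hp hq hqp (c.cnj l).ord hw))
  exact hzT ((eq_of_sup_Phi inf_le_left key).ge hz.1).2

end Cfsg.Agent.F2C
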