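import Cfsg.Agent.F2C.Defs
import Cfsg.Agent.F2C.NB2

set_option autoImplicit false

namespace Cfsg.Agent.F2C
open Subgroup

variable {G : Type*} [Group G] [Finite G]

omit [Finite G] in
theorem nb1_anti {A B : Subgroup G} (h : A ≤ B) : Ce B ≤ Ce A := centralizer_le h

omit [Finite G] in
theorem nb1_sup {D A B : Subgroup G} (h1 : A ≤ Ce D) (h2 : B ≤ Ce D) : A ⊔ B ≤ Ce D :=
  sup_le h1 h2

theorem nb1_z {q : ℕ} (hq : q.Prime) {Q : Subgroup G} (hQ : IsPGroup q Q) (hne : Q ≠ ⊥) :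
    ∃ z ∈ Q ⊓ Ce Q, orderOf z = q := by
  have := Fact.mk hq
  have : Nontrivial Q := (Subgroup.nontrivial_iff_ne_bot Q).2 hne
  have := hQ.center_nontrivial
  have hc : IsPGroup q (center Q) := hQ.to_subgroup _
  obtain ⟨n, hn0, hn⟩ := hc.nontrivial_iff_card.1 inferInstance
  have hd : q ∣ Nat.card (center Q) := hn ▸ dvd_pow_self q hn0.ne'
  obtain ⟨w, hw⟩ := exists_prime_orderOf_dvd_card' q hd
  refine ⟨((w : Q) : G), ⟨(w : Q).2, ?_⟩, ?_⟩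
  · change _ ∈ centralizer (Q : Set G)
    rw [mem_centralizer_iff]
    intro g hg
    exact congrArg Subtype.val (mem_center_iff.1 w.2 ⟨g, hg⟩)
  · rw [Subgroup.orderOf_coe, Subgroup.orderOf_coe, hw]

theorem Ctx.nb1_step {p q r : ℕ} {x : G} (c : Ctx p x) (hD : Del p x) (hq : q.Prime)
    (hqp : q ≠ p) (hr : r.Prime) (hrp : r ≠ p) (hqr : q ≠ r) {Q R D K : Subgroup G}
    (hQ : MQ q x Q) (hR : MQ r x R) (h1 : QQ q x D) (h2 : QQ r x K) (n1 : D ≠ ⊥) (l1 : D ≤ Q)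
    (l2 : K ≤ R) (hc : K ≤ Ce D)
    (hm : ∀ K', QQ r x K' → K' ≤ R → K' ≤ Ce D → K ≤ K' → K' ≤ K) : Q ≤ Ce K := by
  by_contra hno
  have hZp : IsPGroup q ↥(Q ⊓ Ce Q) := hQ.1.1.to_le inf_le_left
  have hZn : x ∈ Nm (Q ⊓ Ce Q) :=
    Nm_inf_Nm_le_inf _ _ ⟨hQ.1.2.1, Nm_le_Nm_Ce Q hQ.1.2.1⟩
  have hZ1 := qq_comm c.hp hq hqp c.ord hZp hZn
  have hZl : ⁅Q ⊓ Ce Q, zpowers x⁆ ≤ Q ⊓ Ce Q := comm_le_left (zpowers_le.2 hZn)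
  have hZK : ⁅Q ⊓ Ce Q, zpowers x⁆ ≤ Ce K :=
    c.comm hq hqp hr hrp hqr (c.Nm_ne' hq h1.1 n1) h1.2.1 hZ1 h2
      (hZl.trans (inf_le_right.trans ((nb1_anti l1).trans (Ce_le_Nm D))))
      (hc.trans (Ce_le_Nm D))
  have hZb : ⁅Q ⊓ Ce Q, zpowers x⁆ = ⊥ := by
    by_contra hne
    exact hno (c.comm hq hqp hr hrp hqr (c.Nm_ne' hq hZ1.1 hne) hZ1.2.1 hQ.1 h2
      ((le_Ce_comm (hZl.trans inf_le_right)).trans (Ce_le_Nm _))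
      ((le_Ce_comm hZK).trans (Ce_le_Nm _)))
  have hZx : Q ⊓ Ce Q ≤ Cx x := comm_eq_bot_iff.1 hZb
  obtain ⟨z, hz, ho⟩ := nb1_z hq hQ.1.1 fun e => n1 (le_bot_iff.1 (e ▸ l1))
  have hzx : z * x = x * z := mem_Cx.1 (hZx hz)
  have hzx' : z * x * z⁻¹ = x := by rw [hzx, mul_inv_cancel_right]
  have hzR : z ∈ Nm R := mem_LL.1 (c.Cx_le_LL (hZx hz)) r R hr hrp hR
  have hzD : z ∈ Nm D := Ce_le_Nm D (nb1_anti l1 hz.2)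
  have hK' : QQ r x (cj z K) := by
    have := h2.cnj z
    rwa [hzx'] at this
  have l3 : cj z K ≤ R := by
    have := cj_mono z l2
    rwa [mem_Nm_iff_cj.1 hzR] at this
  have c3 : cj z K ≤ Ce D := by
    have := cj_mono z hc
    rwa [cj_Ce, mem_Nm_iff_cj.1 hzD] at this
  have hs := hm (K ⊔ cj z K) (h2.sup hK' (hR.1.1.to_le (sup_le l2 l3))) (sup_le l2 l3)
    (nb1_sup hc c3) le_sup_left
  have hzK : z ∈ Nm K := mem_Nm_of_cj_le (le_sup_right.trans hs)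
  have hz1 : z ≠ 1 := by
    rintro rfl
    rw [orderOf_one] at ho
    exact hq.one_lt.ne ho
  refine c.nb2 hD hq hqp hr hrp hqr hQ h2 hZx hz ho hzK fun hzc => hno ?_
  refine c.comm hq hqp hr hrp hqr (c.Cx_ne hz1) (mem_Cx.2 hzx.symm) hQ.1 h2 ?_ ?_
  · exact fun g hg => mem_Cx.2 (mem_centralizer_iff.1 hz.2 g hg)
  · exact fun g hg => mem_Cx.2 (mem_centralizer_iff.1 hzc g hg)

theorem Ctx.nobad {p q r : ℕ} {x : G} (c : Ctx p x) (hD : Del p x) (hq : q.Prime) (hqp : q ≠ p)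
    (hr : r.Prime) (hrp : r ≠ p) (hqr : q ≠ r) {Q R D₁ D₂ : Subgroup G} (hQ : MQ q x Q)
    (hR : MQ r x R) (h1 : QQ q x D₁) (h2 : QQ r x D₂) (n1 : D₁ ≠ ⊥) (n2 : D₂ ≠ ⊥) (l1 : D₁ ≤ Q)
    (l2 : D₂ ≤ R) (hc : D₁ ≤ Ce D₂) : Q ≤ Ce R := by
  obtain ⟨K, hle, hK⟩ := (Set.toFinite {K : Subgroup G | QQ r x K ∧ K ≤ R ∧ K ≤ Ce D₁}).exists_le_maximal
    (a := D₂) ⟨h2, l2, le_Ce_comm hc⟩
  have hQK : Q ≤ Ce K := c.nb1_step hD hq hqp hr hrp hqr hQ hR h1 hK.1.1 n1 l1 hK.1.2.1 hK.1.2.2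
    fun K' a b d e => hK.2 ⟨a, b, d⟩ e
  have nK : K ≠ ⊥ := fun e => n2 (le_bot_iff.1 (e ▸ hle))
  exact le_Ce_comm (c.nb1_step hD hr hrp hq hqp hqr.symm hR hQ hK.1.1 hQ.1 nK hK.1.2.1 le_rfl hQK
    fun _ _ b _ _ => b)

end Cfsg.Agent.F2C
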