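import Cfsg.Agent.F2C.Defs
import Cfsg.Agent.F2C.NB1
import Cfsg.Agent.F2C.Geo
import Cfsg.Agent.F2C.TT
import Cfsg.Agent.F2C.CtxB

set_option autoImplicit false

namespace Cfsg.Agent.F2C
open Subgroup

variable {G : Type*} [Group G] [Finite G]

namespace DEnd

variable {p : ℕ} {x : G}

theorem gle {g : G} {H : Subgroup G} (hx : x ∈ H) (hg : g ∈ H) : gen x (g * x * g⁻¹) ≤ H :=
  (closure_le _).2 (Set.insert_subset hx (Set.singleton_subset_iff.2 (mul_mem (mul_mem hg hx) (inv_mem hg))))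

theorem LL_le {q : ℕ} (hq : q.Prime) (hqp : q ≠ p) {Q : Subgroup G} (hQ : MQ q x Q) : LL p x ≤ Nm Q :=
  fun _ h => mem_LL.1 h q Q hq hqp hQ

theorem lemB (c : Ctx p x) (hD : Del p x) (g : G) : ∃ D : ℕ → Subgroup G,
    (∀ t, t.Prime → t ≠ p → QQ t x (D t)) ∧ (∀ t, D t ≤ gen x (g * x * g⁻¹)) ∧
    (∀ s t, s.Prime → t.Prime → s ≠ t → D s ≤ Ce (D t)) ∧
    ∀ K, LL p x ≤ K → (∀ t, t.Prime → t ≠ p → D t ≤ K) → g ∈ K := by
  obtain ⟨W, hW, hc, hle, hx, -, a, ha, hP⟩ := c.lemP (IsConj.refl x) (isConj_iff.2 ⟨g, rfl⟩)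
  have hag : a * g ∈ LL p x := hD _ (by
    rwa [show a * g * x * (a * g)⁻¹ = a * (g * x * g⁻¹) * a⁻¹ by group])
  have l : ∀ t, ⁅Oq t W, zpowers x⁆ ≤ Oq t W := fun t => comm_le_left (zpowers_le.2 (Nm_le_Nm_Oq t W hx))
  refine ⟨fun t => ⁅Oq t W, zpowers x⁆, fun t ht htp => qq_comm c.hp ht htp c.ord (Oq_pgroup ht W)
    (Nm_le_Nm_Oq t W hx), fun t => (l t).trans ((Oq_le t W).trans hle), fun s t hs ht e =>
    (l s).trans ((Oq_comm hs ht e W).trans (centralizer_le (l t))), fun K hK h => ?_⟩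
  exact (mul_mem_cancel_left (nil_decomp c.hp c.ord hW hc hx h (inf_le_right.trans (c.Cx_le_LL.trans hK)) ha)).1
    (hK hag)

theorem lemC (c : Ctx p x) (hD : Del p x) {s : ℕ} (hs : s.Prime) (hsp : s ≠ p) {H Q : Subgroup G} (hH : H ≠ ⊤)
    (hx : x ∈ H) (hQ : MQ s x Q) (hle : Q ≤ H) : H ≤ Nm Q := fun m hm => by
  obtain ⟨D, h1, h2, -, h4⟩ := lemB c hD m
  refine h4 _ (LL_le hs hsp hQ) fun t ht htp => ?_
  have l := (h2 t).trans (gle hx hm)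
  by_cases e : t = s
  · subst e
    exact (hQ.le_of_join (h1 t ht htp) (c.join ht htp hH hx hQ.1 (h1 t ht htp) hle l)).trans le_normalizer
  · exact (c.comm ht htp hs hsp e hH hx (h1 t ht htp) hQ.1 l hle).trans (Ce_le_Nm Q)

theorem lemD (c : Ctx p x) (hD : Del p x) {q s : ℕ} (hq : q.Prime) (hqp : q ≠ p) (hs : s.Prime) (hsp : s ≠ p)
    {Q R D : Subgroup G} (hQ : MQ q x Q) (nQ : Q ≠ ⊥) (hR : MQ s x R) (h : QQ s x D) (nD : D ≠ ⊥) (l : D ≤ R)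
    (l' : D ≤ Nm Q) : Nm R = Nm Q := by
  have tQ := c.Nm_ne' hq hQ.1.1 nQ
  by_cases e : s = q
  · subst e
    have := hQ.le_of_join h (c.join hs hsp tQ hQ.1.2.1 hQ.1 h le_normalizer l')
    rw [hQ.2 R hR.1 (c.u1 hs hsp hR hQ.1 (ne_bot_of_le_ne_bot nD (le_inf l this)))]
  · have k := c.nobad hD hs hsp hq hqp e hR hQ h hQ.1 nD nQ l le_rfl
      (c.comm hs hsp hq hqp e tQ hQ.1.2.1 h hQ.1 l' le_normalizer)
    exact le_antisymm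
      (lemC c hD hq hqp (c.Nm_ne' hs hR.1.1 (ne_bot_of_le_ne_bot nD l)) hR.1.2.1 hQ ((le_Ce_comm k).trans (Ce_le_Nm R)))
      (lemC c hD hs hsp tQ hQ.1.2.1 hR (k.trans (Ce_le_Nm Q)))

end DEnd

open DEnd in
theorem Ctx.dend {p : ℕ} {x : G} (c : Ctx p x) (hD : Del p x) : False := by
  refine c.geo_false (LL p x) {M | ∃ q Q, q.Prime ∧ q ≠ p ∧ MQ q x Q ∧ Q ≠ ⊥ ∧ M = Nm Q} (self_mem_LL p x)
    ?_ ?_ (fun g => ?_) ?_
  · rintro _ ⟨q, Q, hq, hqp, hQ, -, rfl⟩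
    exact LL_le hq hqp hQ
  · rintro _ ⟨q, Q, hq, -, hQ, nQ, rfl⟩
    exact c.Nm_ne' hq hQ.1.1 nQ
  · obtain ⟨D, h1, -, h3, h4⟩ := lemB c hD g
    by_cases h : ∀ t, t.Prime → t ≠ p → D t = ⊥
    · obtain ⟨q, Q, hq, hqp, hQ, nQ⟩ := c.exists_Q
      exact ⟨_, ⟨q, Q, hq, hqp, hQ, nQ, rfl⟩, h4 _ (LL_le hq hqp hQ) fun t ht htp => (h t ht htp).le.trans bot_le⟩
    · push Not at h
      obtain ⟨s, hs, hsp, nD⟩ := h
      obtain ⟨R, hR, l⟩ := (h1 s hs hsp).exists_MQ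
      refine ⟨_, ⟨s, R, hs, hsp, hR, ne_bot_of_le_ne_bot nD l, rfl⟩, h4 _ (LL_le hs hsp hR) fun t ht htp => ?_⟩
      by_cases e : t = s
      · exact e ▸ l.trans le_normalizer
      by_cases nt : D t = ⊥
      · exact nt.le.trans bot_le
      obtain ⟨R', hR', l'⟩ := (h1 t ht htp).exists_MQ
      exact l'.trans ((c.nobad hD ht htp hs hsp e hR' hR (h1 t ht htp) (h1 s hs hsp) nt nD l' l
        (h3 t s ht hs e)).trans (Ce_le_Nm R))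
  · rintro _ ⟨q, Q, hq, hqp, hQ, nQ, rfl⟩ _ ⟨q', Q', hq', hqp', hQ', nQ', rfl⟩ ne g hg
    obtain ⟨D, h1, h2, -, h4⟩ := lemB c hD g
    refine h4 _ le_rfl fun s hs hsp => ?_
    by_cases nD : D s = ⊥
    · exact nD.le.trans bot_le
    obtain ⟨R, hR, l⟩ := (h1 s hs hsp).exists_MQ
    exact absurd ((lemD c hD hq hqp hs hsp hQ nQ hR (h1 s hs hsp) nD l ((h2 s).trans (gle hQ.1.2.1 hg.1))).symm.trans
      (lemD c hD hq' hqp' hs hsp hQ' nQ' hR (h1 s hs hsp) nD l ((h2 s).trans (gle hQ'.1.2.1 hg.2)))) ne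

end Cfsg.Agent.F2C
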