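import Cfsg.Agent.F2C.Defs
import Cfsg.Agent.F2C.TT
import Cfsg.Agent.F2C.Theta
import Cfsg.Agent.S0058

set_option autoImplicit false

namespace Cfsg.Agent.F2C
open Subgroup

variable {G : Type*} [Group G] [Finite G]


theorem gam1_cyc {Z : Type*} [Group Z] [Finite Z] [IsCyclic Z] {q : ℕ} (hq : 0 < q) {a b : Z} (ha : orderOf a = q)
    (hb : b ^ q = 1) : b ∈ zpowers a := by
  let : CommGroup Z := IsCyclic.commGroup
  have le : zpowers a ≤ (powMonoidHom q : Z →* Z).ker :=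
    zpowers_le.2 (show a ^ q = 1 from ha ▸ pow_orderOf_eq_one a)
  have e := eq_of_le_of_card_ge le (by
    rw [IsCyclic.card_powMonoidHom_ker, Nat.card_zpowers, ha]
    exact Nat.gcd_le_right _ hq)
  exact e.ge (show b ^ q = 1 from hb)

theorem gam1_fix {q : ℕ} (hq : q.Prime) {z t : G} (ho : orderOf z = q) (h : t * z * t⁻¹ ∈ zpowers z) (ht : PE q t) :
    t ∈ Cx z := by
  have := Fact.mk hq
  obtain ⟨k, hk⟩ := (mem_powers_iff_mem_zpowers.2 h)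
  have hk : z ^ k = t * z * t⁻¹ := hk
  have e : ∀ n : ℕ, t ^ n * z * (t ^ n)⁻¹ = z ^ k ^ n := fun n => by
    induction n with
    | zero => simp
    | succ n ih =>
      rw [pow_succ' k, pow_mul, hk, conj_pow, ← ih, pow_succ']
      group
  obtain ⟨m, hm⟩ := ht
  have e1 := e (q ^ m)
  rw [hm, one_mul, inv_one, mul_one] at e1
  have e2 : z ^ k ^ q ^ m = z ^ k := by
    rw [pow_eq_pow_iff_modEq, ho, ← ZMod.natCast_eq_natCast_iff, Nat.cast_pow, ZMod.pow_card_pow]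
  rw [e2, hk] at e1
  exact mem_Cx.2 (mul_inv_eq_iff_eq_mul.1 e1.symm)

theorem gam1_le_Cx {A : Subgroup G} {z : G} (h : z ∈ Ce A) : A ≤ Cx z := fun a ha => mem_Cx.2 (h a ha)

theorem Ctx.gam1 {p : ℕ} {x : G} (c : Ctx p x) (h : Gam p x) :
    ∃ (q r : ℕ) (Q R : Subgroup G) (z : G), q.Prime ∧ q ≠ p ∧ r.Prime ∧ r ≠ p ∧ q ≠ r ∧
      UQ q x Q ∧ UQ r x R ∧ ¬ Q ≤ Ce R ∧
      (∀ (s : ℕ) (D : Subgroup G), s.Prime → s ≠ p → s ≠ q → QQ s x D → D ≤ Nm R) ∧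
      orderOf z = q ∧ z ∈ Q ⊓ Ce Q ∧ z ∈ Cx x ∧ z ∉ Ce R ∧
      ∀ t ∈ Nm Q, PE q t → t ∈ Cx z := by
  obtain ⟨q, D, hq, hqp, hD, D0, hj, hc⟩ := h
  have := Fact.mk hq
  obtain ⟨Q, hQ, DQ⟩ := hD.exists_MQ
  have uQ : UQ q x Q := ⟨hQ.1, fun D' h' => le_sup_right.trans (c.u1 hq hqp hQ (hD.sup h' (hj D' h'))
    fun e => D0 (eq_bot_iff.2 ((le_inf DQ le_sup_left).trans e.le)))⟩
  have Q0 : Q ≠ ⊥ := fun e => D0 (eq_bot_iff.2 (DQ.trans e.le))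
  have nQ : Nm Q ≠ ⊤ := c.Nm_ne' hq hQ.1.1 Q0
  have hH : Nm D ≠ ⊤ := c.Nm_ne' hq hD.1 D0
  have xH : x ∈ Nm D := hD.2.1
  have inH : ∀ {s : ℕ} {D' : Subgroup G}, s.Prime → s ≠ p → s ≠ q → QQ s x D' → D' ≤ Nm D :=
    fun h1 h2 h3 h4 => (hc _ _ h1 h2 h3 h4).trans (Ce_le_Nm D)
  have uS : ∀ {s : ℕ}, s.Prime → s ≠ p → s ≠ q → UQ s x ⁅Oq s (Nm D), zpowers x⁆ := fun h1 h2 h3 =>
    ⟨qq_comm c.hp h1 h2 c.ord (Oq_pgroup h1 _) (le_Nm_Oq _ _ xH),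
      fun D' h' => h'.le_comm (c.qq_le h1 h2 hH xH h' (inH h1 h2 h3 h'))⟩
  obtain ⟨r, R, hr, hrp, hrq, uR, hQR⟩ :
      ∃ (r : ℕ) (R : Subgroup G), r.Prime ∧ r ≠ p ∧ r ≠ q ∧ UQ r x R ∧ ¬ Q ≤ Ce R := by
    by_contra k
    obtain ⟨M, hM, le⟩ := (eq_top_or_exists_le_coatom (Nm Q)).resolve_left nQ
    refine hM.1 (eq_top_iff.2 fun g _ => ?_)
    obtain ⟨W, w1, w2, -, w3, -, a, ha, w4⟩ := c.lemP (IsConj.refl x) (isConj_iff.2 ⟨g, rfl⟩)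
    have e : a * (g * x * g⁻¹) * a⁻¹ = a * g * x * (a * g)⁻¹ := by group
    have m1 := c.thetaP hq hqp uQ Q0 hM le (e ▸ w4)
    have m2 : W ≤ Nm Q := by
      refine nil_decomp c.hp c.ord w1 w2 w3 (fun s h1 h2 => ?_) (inf_le_right.trans uQ.Cx_le)
      have qs := qq_comm c.hp h1 h2 c.ord (Oq_pgroup h1 W) (Nm_le_Nm_Oq _ _ w3)
      by_cases h3 : s = q
      · subst h3
        exact (uQ.2 _ qs).trans le_normalizer
      · refine ((uS h1 h2 h3).2 _ qs).trans ((le_Ce_comm ?_).trans (Ce_le_Nm Q))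
        by_contra k'
        exact k ⟨s, _, h1, h2, h3, uS h1 h2 h3, k'⟩
    exact (mul_mem_cancel_left (le (m2 ha))).1 m1
  have hqr : q ≠ r := hrq.symm
  have no : ∀ {H : Subgroup G}, H ≠ ⊤ → x ∈ H → Q ≤ H → ¬ R ≤ H := fun h1 h2 h3 h4 =>
    hQR (c.comm hq hqp hr hrp hqr h1 h2 uQ.1 uR.1 h3 h4)
  have pZ : IsPGroup q ↥(Q ⊓ Ce Q) := hQ.1.1.to_inf_left
  have nZ : Nm Q ≤ Nm (Q ⊓ Ce Q) := (le_inf le_rfl (Nm_le_Nm_Ce Q)).trans (Nm_inf_Nm_le_inf _ _)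
  have xQ : x ∈ Nm Q := hQ.1.2.1
  have Zx : Q ⊓ Ce Q ≤ Cx x := by
    rw [← comm_eq_bot_iff]
    by_contra k
    have qz := qq_comm c.hp hq hqp c.ord pZ (nZ xQ)
    have l1 : ⁅Q ⊓ Ce Q, zpowers x⁆ ≤ Ce Q := (comm_le_left (zpowers_le.2 (nZ xQ))).trans inf_le_right
    have l2 := c.comm hq hqp hr hrp hqr hH xH qz uR.1
      (l1.trans ((centralizer_le (SetLike.coe_subset_coe.2 DQ)).trans (Ce_le_Nm D))) (inH hr hrp hrq uR.1)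
    exact no (c.Nm_ne' hq qz.1 k) qz.2.1 ((le_Ce_comm l1).trans (Ce_le_Nm _)) ((le_Ce_comm l2).trans (Ce_le_Nm _))
  have xz : ∀ {z : G}, z ∈ Q ⊓ Ce Q → x ∈ Cx z := fun hz => mem_Cx.2 (mem_Cx.1 (Zx hz)).symm
  have cyc : IsCyclic ↥(Q ⊓ Ce Q) := by
    by_contra k
    have : IsMulCommutative ↥(Q ⊓ Ce Q) := ⟨⟨fun a b => Subtype.ext (b.2.2 a a.2.1)⟩⟩
    have := Fact.mk hr
    have e := S0058.result (Q ⊓ Ce Q) R k (Zx.trans uR.Cx_le)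
      (IsPGroup.coprime_card_of_ne q r hqr _ _ pZ uR.1.1)
    refine no nQ xQ le_normalizer (e.ge.trans (iSup₂_le fun z hz => ?_))
    have pU : IsPGroup r ↥(R ⊓ Cx z) := uR.1.1.to_inf_left
    have xU : x ∈ Nm (R ⊓ Cx z) := Nm_inf_Nm_le_inf _ _ ⟨uR.1.2.1, Cx_le_Nm_Cx z (xz hz.1)⟩
    refine le_of_decomp c.hp c.ord (cop_of_pg c.hp hr hrp pU) xU ?_ (inf_le_right.trans uQ.Cx_le)
    exact (c.comm hr hrp hq hqp hrq (c.Cx_ne hz.2) (xz hz.1) (qq_comm c.hp hr hrp c.ord pU xU) uQ.1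
      ((comm_le_left (zpowers_le.2 xU)).trans inf_le_right) (gam1_le_Cx hz.1.2)).trans (Ce_le_Nm Q)
  have : Nontrivial Q := (nontrivial_iff_ne_bot Q).2 Q0
  have : Nontrivial ↥(Q ⊓ Ce Q) := by
    obtain ⟨⟨u, hu⟩, u1⟩ := @exists_ne _ hQ.1.1.center_nontrivial 1
    exact ⟨⟨⟨u, u.2, fun v hv => congrArg Subtype.val (mem_center_iff.1 hu ⟨v, hv⟩)⟩, 1,
      fun e => u1 (Subtype.ext (Subtype.ext (Subtype.ext_iff.1 e :)))⟩⟩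
  obtain ⟨n, n0, hn⟩ := pZ.nontrivial_iff_card.1 inferInstance
  obtain ⟨z, hz⟩ := exists_prime_orderOf_dvd_card' (G := ↥(Q ⊓ Ce Q)) q (hn ▸ dvd_pow_self q n0.ne')
  have oz : orderOf (z : G) = q := (orderOf_coe z).trans hz
  have z1 : (z : G) ≠ 1 := fun e => hq.one_lt.ne' (by rw [← oz, e, orderOf_one])
  refine ⟨q, r, Q, R, z, hq, hqp, hr, hrp, hqr, uQ, uR, hQR, fun s D' h1 h2 h3 h4 => ?_, oz, z.2, Zx z.2,
    fun k => no (c.Cx_ne z1) (xz z.2) (gam1_le_Cx z.2.2) (gam1_le_Cx k), fun t ht pt => ?_⟩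
  · by_cases h5 : s = r
    · subst h5
      exact (uR.2 _ h4).trans le_normalizer
    · exact (c.comm h1 h2 hr hrp h5 hH xH h4 uR.1 (inH h1 h2 h3 h4) (inH hr hrp hrq uR.1)).trans (Ce_le_Nm R)
  · refine gam1_fix hq oz ?_ pt
    obtain ⟨k, hk⟩ := gam1_cyc (b := ⟨t * z * t⁻¹, (mem_normalizer_iff.1 (nZ ht) _).1 z.2⟩) hq.pos hz
      (Subtype.ext (by
        change (t * z * t⁻¹) ^ q = 1
        rw [conj_pow, ← oz, pow_orderOf_eq_one, mul_one, mul_inv_cancel]))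
    exact ⟨k, by simpa using congrArg Subtype.val hk⟩

end Cfsg.Agent.F2C
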