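import Cfsg.Agent.F2C.Defs
import Cfsg.Agent.F2C.TT

set_option autoImplicit false

namespace Cfsg.Agent.F2C
open Subgroup
open scoped commutatorElement

variable {G : Type*} [Group G] [Finite G]

theorem Lam.over {p s : ℕ} {x b : G} (c : Ctx p x) (hb : IsConj x b) (hs : s.Prime) (hsp : s ≠ p)
    (h2 : b ∈ LL p x) {D' : Subgroup G} (hD : QQ s x D') :
    ∃ H : Subgroup G, H ≠ ⊤ ∧ LL p b ≤ H ∧ D' ≤ H := by
  have cb := c.of_isConj hb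
  obtain ⟨Q', hQ', le1⟩ := hD.exists_MQ
  have hn : b ∈ Nm Q' := mem_LL.1 h2 s Q' hs hsp hQ'
  obtain ⟨Q'', hQ'', le2⟩ := (qq_comm c.hp hs hsp cb.ord hQ'.1.1 hn).exists_MQ
  have key : ∀ H : Subgroup G, LL p b ≤ H → Q'' ≤ H → D' ≤ H := fun H k1 k2 =>
    le1.trans (le_of_decomp c.hp cb.ord (cop_of_pg c.hp hs hsp hQ'.1.1) hn (le2.trans k2)
      (inf_le_right.trans (cb.Cx_le_LL.trans k1)))
  by_cases h0 : Q'' = ⊥
  · exact ⟨LL p b, cb.LL_ne, le_rfl, key _ le_rfl (h0 ▸ bot_le)⟩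
  · have k1 : LL p b ≤ Nm Q'' := fun g hg => mem_LL.1 hg s Q'' hs hsp hQ''
    exact ⟨Nm Q'', c.Nm_ne' hs hQ''.1.1 h0, k1, key _ k1 le_normalizer⟩

theorem Ctx.lam1 {p q : ℕ} {x b : G} (c : Ctx p x) (hb : IsConj x b) (hq : q.Prime) (hqp : q ≠ p)
    (h1 : x ∈ LL p b) (h2 : b ∈ LL p x) {D : Subgroup G} (hD : QQ q x D) (hne : D ≠ ⊥)
    (hc : D ≤ Cx b) : Gam p x := by
  have cb := c.of_isConj hb
  refine ⟨q, D, hq, hqp, hD, hne, fun D' hD' => ?_, fun s D' hs hsp hsq hD' => ?_⟩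
  · obtain ⟨H, hH, k1, k2⟩ := Lam.over c hb hq hqp h2 hD'
    exact c.join hq hqp hH (k1 h1) hD hD' (hc.trans (cb.Cx_le_LL.trans k1)) k2
  · obtain ⟨H, hH, k1, k2⟩ := Lam.over c hb hs hsp h2 hD'
    exact c.comm hs hsp hq hqp hsq hH (k1 h1) hD' hD k2 (hc.trans (cb.Cx_le_LL.trans k1))

/-- the elements of `T` whose commutators with `Q'` lie in `Q` -/
def Lam.A (T Q Q' : Subgroup G) (h : T ≤ Nm Q) : Subgroup G where
  carrier := {t | t ∈ T ∧ ∀ u ∈ Q', ⁅u, t⁆ ∈ Q}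
  one_mem' := ⟨one_mem _, fun u _ => by simp⟩
  mul_mem' := fun {a b} ha hb => ⟨mul_mem ha.1 hb.1, fun u hu => by
    have := mul_mem (ha.2 u hu) ((mem_normalizer_iff.1 (h ha.1) _).1 (hb.2 u hu))
    convert this using 1
    simp only [commutatorElement_def]; group⟩
  inv_mem' := fun {a} ha => ⟨inv_mem ha.1, fun u hu => by
    have := (mem_normalizer_iff.1 (h (inv_mem ha.1)) _).1 (inv_mem (ha.2 u hu))
    convert this using 1
    simp only [commutatorElement_def]; group⟩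

theorem Lam.nmA {T Q Q' : Subgroup G} (h : T ≤ Nm Q) (h' : T ≤ Nm Q') : T ≤ Nm (Lam.A T Q Q' h) := by
  intro s hs
  refine mem_Nm_of_cj_le ?_
  rintro _ ⟨t, ht, rfl⟩
  refine ⟨mul_mem (mul_mem hs ht.1) (inv_mem hs), fun u hu => ?_⟩
  have := (mem_normalizer_iff.1 (h hs) _).1 (ht.2 _ ((mem_normalizer_iff.1 (h' (inv_mem hs)) _).1 hu))
  convert this using 1
  simp only [commutatorElement_def, MulEquiv.coe_toMonoidHom, MulAut.conj_apply]; group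

theorem Lam.gam {p : ℕ} {x g : G} (h : Gam p (g * x * g⁻¹)) : Gam p x := by
  have := h.cnj g⁻¹
  rwa [show g⁻¹ * (g * x * g⁻¹) * g⁻¹⁻¹ = x by group] at this

theorem Ctx.lam {p : ℕ} {x g : G} (c : Ctx p x) (hG : ¬ Gam p x) {T : Subgroup G}
    (hT : IsPGroup p T) (hx : x ∈ T) (hb : g * x * g⁻¹ ∈ T) (h1 : T ≤ LL p x)
    (h2 : T ≤ LL p (g * x * g⁻¹)) : g ∈ LL p x := by
  refine mem_LL.2 fun q Q hq hqp hQ => ?_
  have cb := c.cnj g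
  have hQ' := hQ.cnj g
  have n1 : T ≤ Nm Q := fun t ht => mem_LL.1 (h1 ht) q Q hq hqp hQ
  have n2 : T ≤ Nm (cj g Q) := fun t ht => mem_LL.1 (h2 ht) q _ hq hqp hQ'
  have ex : g⁻¹ * (g * x * g⁻¹) * g⁻¹⁻¹ = x := by group
  have k1 : ⁅cj g Q, zpowers x⁆ ≤ Q := by
    by_cases h0 : ⁅cj g Q, zpowers x⁆ = ⊥
    · rw [h0]; exact bot_le
    · have := cb.tt (g := g⁻¹) hq hqp hQ' (by
        rw [ex]
        exact hT.to_le ((closure_le _).2 (by rintro _ (rfl | rfl) <;> assumption)))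
        (by rw [ex]; exact n2 hx) (by rw [ex]; exact h0)
      rwa [ex, cj_inv_cj] at this
  set A := Lam.A T Q (cj g Q) n1 with hA
  have xA : x ∈ A := ⟨hx, fun u hu => k1 (commutator_mem_commutator hu (mem_zpowers x))⟩
  have AT : A ≤ T := fun t ht => ht.1
  have k2 : ⁅cj g Q, A⁆ ≤ Q := commutator_le.2 fun u hu t ht => ht.2 u hu
  have nb : g * x * g⁻¹ ∈ Nm (cj g Q ⊓ Ce A) :=
    Nm_inf_Nm_le_inf _ _ ⟨n2 hb, Nm_le_Nm_Ce _ (Lam.nmA n1 n2 hb)⟩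
  have pC : IsPGroup q ↥(cj g Q ⊓ Ce A) := hQ'.1.1.to_le inf_le_left
  have k3 : cj g Q ⊓ Ce A ≤ Cx (g * x * g⁻¹) := by
    rw [← comm_eq_bot_iff]
    by_contra h0
    refine hG (Lam.gam (cb.lam1 (b := x) (isConj_iff.2 ⟨g⁻¹, ex⟩) hq hqp (h1 hb) (h2 hx)
      (qq_comm c.hp hq hqp cb.ord pC nb) h0 ?_))
    refine (comm_le_left (zpowers_le.2 nb)).trans (inf_le_right.trans ?_)
    exact centralizer_le (Set.singleton_subset_iff.2 xA)
  have k4 : cj g Q ⊓ Ce A ≤ Phi (cj g Q) :=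
    (le_inf inf_le_left k3).trans (QQ.fix_le_Phi c.hp hq hqp cb.ord hQ'.1)
  have k5 : Q ⊓ cj g Q = cj g Q := eq_of_sup_Phi inf_le_right fun u hu => by
    obtain ⟨d, hd, e, he, rfl⟩ := decomp c.hp (hT.to_le AT) (cop_of_pg c.hp hq hqp hQ'.1.1) (AT.trans n2) hu
    exact mul_mem (mem_sup_left ⟨k2 hd, comm_le_left (AT.trans n2) hd⟩) (mem_sup_right (k4 he))
  exact mem_Nm_of_cj_le (k5 ▸ inf_le_left)

theorem Lam.grow {p : ℕ} (hp : p.Prime) {P K : Subgroup G} (hP : IsPGroup p P) (h : ¬ P ≤ K) :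
    ∃ n ∈ P, n ∉ K ∧ n ∈ Nm (P ⊓ K) := by
  have := Fact.mk hp
  have := hP.isNilpotent
  have hlt : K.subgroupOf P < ⊤ := lt_top_iff_ne_top.2 fun e => h (subgroupOf_eq_top.1 e)
  obtain ⟨n, hn, hn'⟩ := SetLike.exists_of_lt (Group.normalizerCondition_of_isNilpotent _ hlt)
  refine ⟨n, n.2, hn', mem_Nm_of_cj_le ?_⟩
  rintro _ ⟨t, ht, rfl⟩
  exact ⟨P.mul_mem (P.mul_mem n.2 ht.1) (P.inv_mem n.2), (mem_normalizer_iff.1 hn ⟨t, ht.1⟩).1 ht.2⟩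

theorem Lam.ple {p : ℕ} {x : G} (c : Ctx p x) (hG : ¬ Gam p x) {P : Subgroup G} (hP : IsPGroup p P)
    (hx : x ∈ P) : P ≤ LL p x := by
  by_contra h
  obtain ⟨n, -, hn, hn'⟩ := Lam.grow c.hp hP h
  have x0 : x ∈ P ⊓ LL p x := ⟨hx, self_mem_LL p x⟩
  refine hn (c.lam hG (hP.to_le inf_le_left) x0 ((mem_normalizer_iff.1 hn' x).1 x0) inf_le_right ?_)
  rw [LL_cj, ← mem_Nm_iff_cj.1 hn']
  exact cj_mono n inf_le_right

theorem Ctx.delta {p : ℕ} {x : G} (c : Ctx p x) (hG : ¬ Gam p x) : Del p x := by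
  intro g hT
  have hx : x ∈ gen x (g * x * g⁻¹) := subset_closure (Or.inl rfl)
  have hb : g * x * g⁻¹ ∈ gen x (g * x * g⁻¹) := subset_closure (Or.inr rfl)
  exact c.lam hG hT hx hb (Lam.ple c hG hT hx) (Lam.ple (c.cnj g) (fun h => hG (Lam.gam h)) hT hb)

end Cfsg.Agent.F2C
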