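import Cfsg.Agent.F2C.Gam1
import Cfsg.Agent.F2C.Gam2
import Cfsg.Agent.F2C.DEnd
import Cfsg.Agent.F2C.Lam
import Cfsg.Agent.F2C.Tr2
import Cfsg.Agent.F2C.SolA
import Cfsg.Agent.F2C.SolC

set_option autoImplicit false

namespace Cfsg.Agent.F2C
open Subgroup

universe u

section
variable {G : Type*} [Group G] [Finite G]

theorem Ctx.false {p : ℕ} {x : G} (c : Ctx p x) : False := by
  by_cases h : Gam p x
  · obtain ⟨q, r, Q, R, z, a1, a2, a3, a4, a5, a6, a7, a8, a9, a10, a11, a12, a13, a14⟩ := c.gam1 h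
    exact c.gam2 a1 a2 a3 a4 a5 a6 a7 a8 a9 a10 a11 a12 a13 a14
  · exact c.dend (c.delta h)

omit [Finite G] in
theorem normal_of_top_le_Nm {W : Subgroup G} (h : ⊤ ≤ Nm W) : W.Normal :=
  normalizer_eq_top_iff.mp (top_le_iff.mp h)

theorem eq_one_of_good {p : ℕ} (hp : p.Prime)
    (fit : ∀ N : Subgroup G, N.Normal → Group.IsNilpotent N → N = ⊥) {b : G}
    (h : Good p ⊤ b) : b = 1 := by
  obtain ⟨W, N, f, hb⟩ := h
  haveI := Fact.mk hp
  have hW : W = ⊥ := fit W (normal_of_top_le_Nm f.nw) f.nil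
  have hN : IsPGroup p N := by
    intro g
    obtain ⟨k, hk⟩ := f.pw g g.2
    rw [hW, mem_bot] at hk
    exact ⟨k, Subtype.ext (by simpa using hk)⟩
  have := fit N (normal_of_top_le_Nm f.nn) hN.isNilpotent
  rw [this, mem_bot] at hb
  exact hb

omit [Finite G] in
theorem map_gen {G' : Type*} [Group G'] (f : G →* G') (a b : G) :
    (gen a b).map f = gen (f a) (f b) := by
  rw [MonoidHom.map_closure, Set.image_pair]

theorem exists_minV {N : Subgroup G} (hN : N.Normal) (hnil : Group.IsNilpotent N) (hne : N ≠ ⊥) :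
    ∃ (q : ℕ) (V : Subgroup G), q.Prime ∧ V.Normal ∧ V ≠ ⊥ ∧ IsPGroup q V ∧ V ≤ Ce V ∧
      ∀ U : Subgroup G, U.Normal → U ≤ V → U = ⊥ ∨ U = V := by
  obtain ⟨V, ⟨hVn, hVne, hVN⟩, hmin⟩ :=
    (wellFounded_lt (α := Subgroup G)).has_min {V | V.Normal ∧ V ≠ ⊥ ∧ V ≤ N} ⟨N, hN, hne, le_rfl⟩
  have hm : ∀ U : Subgroup G, U.Normal → U ≤ V → U = ⊥ ∨ U = V := by
    intro U hU hle
    by_contra hcon
    push Not at hcon
    exact hmin U ⟨hU, hcon.1, hle.trans hVN⟩ (lt_of_le_of_ne hle hcon.2)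
  have hVnil : Group.IsNilpotent V :=
    nilpotent_of_surjective (f := (subgroupOfEquivOfLe hVN).toMonoidHom)
      (subgroupOfEquivOfLe hVN).surjective
  have hex : ∃ q : ℕ, q.Prime ∧ Oq q V ≠ ⊥ := by
    by_contra hcon
    push Not at hcon
    exact hVne (le_bot_iff.mp (nil_le hVnil fun s hs _ => (hcon s hs).le))
  obtain ⟨q, hq, hO⟩ := hex
  have htop : (⊤ : Subgroup G) ≤ Nm V := (normalizer_eq_top_iff.mpr hVn).ge
  have hOV : Oq q V = V :=
    (hm _ (normal_of_top_le_Nm (htop.trans (Nm_le_Nm_Oq q V))) (Oq_le q V)).resolve_left hO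
  have hpg : IsPGroup q V := hOV ▸ Oq_pgroup hq V
  haveI := Fact.mk hq
  haveI : Nontrivial V := (nontrivial_iff_ne_bot V).mpr hVne
  haveI := hpg.center_nontrivial
  obtain ⟨⟨z, hz⟩, hz1⟩ := exists_ne (1 : center V)
  have hZ : V ⊓ Ce V = V := by
    refine (hm _ (normal_of_top_le_Nm ?_) inf_le_left).resolve_left ?_
    · exact (le_inf htop (htop.trans (Nm_le_Nm_Ce V))).trans (Nm_inf_Nm_le_inf V (Ce V))
    · intro h
      have : (z : G) ∈ V ⊓ Ce V := by
        refine mem_inf.mpr ⟨z.2, mem_centralizer_iff.mpr ?_⟩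
        intro g hg
        exact congrArg Subtype.val (mem_center_iff.mp hz ⟨g, hg⟩)
      rw [h, mem_bot] at this
      exact hz1 (Subtype.ext (Subtype.ext this))
  exact ⟨q, V, hq, hVn, hVne, hpg, hZ.ge.trans inf_le_right, hm⟩

end

theorem main_aux {p : ℕ} (hp : p.Prime) (n : ℕ) :
    ∀ (G : Type u) [Group G] [Finite G], Nat.card G = n → ∀ x : G, PE p x →
      (∀ y, Good p (gen x y) x) → Good p ⊤ x := by
  induction n using Nat.strong_induction_on with
  | _ n ih =>
  intro G _ _ hn x hx hyp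
  have sub : ∀ (H : Subgroup G), H ≠ ⊤ → ∀ b ∈ H, PE p b → (∀ y, Good p (gen b y) b) →
      Good p H b := by
    intro H hH b hb pb hb'
    have hlt : Nat.card H < n := by
      rw [← hn, ← card_top (G := G)]
      exact lt_of_le_of_ne (card_le_of_le le_top) fun h => hH (eq_of_le_of_card_ge le_top h.ge)
    have := ih _ hlt H rfl ⟨b, hb⟩ (by
      obtain ⟨k, hk⟩ := pb
      exact ⟨k, Subtype.ext (by simpa using hk)⟩) (fun y => by
      refine Good.of_map H.subtype H.subtype_injective ?_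
      rw [map_gen]
      exact hb' y)
    have h2 := this.map H.subtype
    rwa [← MonoidHom.range_eq_map, range_subtype] at h2
  have ncl : ∀ b : G, PE p b → (∀ y, Good p (gen b y) b) → normalClosure ({b} : Set G) ≠ ⊤ →
      Good p ⊤ b := fun b pb hb hne =>
    Good.of_normal hp inferInstance (sub _ hne b (subset_normalClosure rfl) pb hb)
  by_contra hno
  by_cases fit : ∀ N : Subgroup G, N.Normal → Group.IsNilpotent N → N = ⊥
  · have hx1 : x ≠ 1 := by
      rintro rfl
      refine hno ⟨⊥, ⊥, ⟨le_rfl, bot_le, ?_, ?_, inferInstance, by simp, ?_⟩, one_mem _⟩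
      · exact (normalizer_eq_top_iff.mpr inferInstance).ge
      · exact (normalizer_eq_top_iff.mpr inferInstance).ge
      · intro g hg
        exact ⟨0, by simpa using hg⟩
    obtain ⟨k, hk⟩ := hx
    obtain ⟨j, -, hj⟩ := (Nat.dvd_prime_pow hp).mp (orderOf_dvd_of_pow_eq_one hk)
    have hj0 : j ≠ 0 := by
      rintro rfl
      exact hx1 (by simpa using hj)
    obtain ⟨i, rfl⟩ := Nat.exists_eq_succ_of_ne_zero hj0
    set b := x ^ p ^ i with hb
    have ob : orderOf b = p := by
      rw [hb, orderOf_pow_of_dvd (pow_ne_zero _ hp.ne_zero) (by rw [hj]; exact pow_dvd_pow _ (Nat.le_succ i)),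
        hj, pow_succ, Nat.mul_div_cancel_left _ (pow_pos hp.pos i)]
    have hb1 : b ≠ 1 := by
      intro h
      rw [h, orderOf_one] at ob
      exact hp.one_lt.ne ob
    have pb : PE p b := ⟨1, by rw [pow_one, ← ob, pow_orderOf_eq_one]⟩
    have hypb : ∀ y, Good p (gen b y) b := fun y => by
      refine ((hyp y).pow (p ^ i)).mono ?_ (subset_closure (Or.inl hb.symm))
      rw [closure_le]
      rintro t (rfl | rfl)
      · exact pow_mem (subset_closure (by simp)) _
      · exact subset_closure (by simp)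
    have hnb : ¬ Good p ⊤ b := fun h => hb1 (eq_one_of_good hp fit h)
    refine Ctx.false (p := p) (x := b) ⟨hp, ob, fit, ?_, ?_, ?_⟩
    · by_contra h
      exact hnb (ncl b pb hypb h)
    · intro y h
      exact hnb (h ▸ hypb y)
    · intro H hH
      obtain ⟨W, N, f, -, -, hu⟩ := exists_univ hp H
      refine ⟨W, N, f, fun a ha hc => hu a ?_⟩
      obtain ⟨g, rfl⟩ := isConj_iff.mp hc
      refine sub H hH _ ha ⟨1, ?_⟩ fun y => ?_
      · rw [pow_one, conj_pow, ← ob, pow_orderOf_eq_one]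
        simp
      · have := (hypb (g⁻¹ * y * g)).cnj g
        rw [cj_gen] at this
        simpa [mul_assoc] using this
  · push Not at fit
    obtain ⟨N, hN, hnil, hne⟩ := fit
    obtain ⟨q, V, hq, hVn, hVne, hV, hc, hmin⟩ := exists_minV hN hnil hne
    have hncl : normalClosure ({x} : Set G) = ⊤ := by
      by_contra h
      exact hno (ncl x hx hyp h)
    have hlt : Nat.card (G ⧸ V) < n := by
      rw [← hn, card_eq_card_quotient_mul_card_subgroup V]
      exact lt_mul_of_one_lt_right Nat.card_pos ((one_lt_card_iff_ne_bot V).mpr hVne)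
    have hg : Good p (⊤ : Subgroup (G ⧸ V)) (QuotientGroup.mk' V x) := by
      refine ih _ hlt (G ⧸ V) rfl _ ?_ fun y => ?_
      · obtain ⟨k, hk⟩ := hx
        exact ⟨k, by rw [← map_pow, hk, map_one]⟩
      · obtain ⟨y, rfl⟩ := QuotientGroup.mk'_surjective V y
        rw [← map_gen]
        exact (hyp y).map _
    obtain ⟨r, R, ρ, m, hr, hrp, hrq, hR, hρ, hm, hxm, hnc⟩ := solA hp hq hx hncl V hV hc hmin hg hno
    exact solC hp hq hr hrp hrq V hV hc hR hρ hm hxm hnc hyp

theorem main {G : Type*} [Group G] [Finite G] {p : ℕ} (hp : p.Prime) {x : G} (hx : PE p x)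
    (h : ∀ y, Good p (gen x y) x) : Good p ⊤ x := main_aux hp _ G rfl x hx h

theorem mem_of_pparts {G : Type*} [Group G] [Finite G] {S : Subgroup G} {x : G}
    (h : ∀ p n : ℕ, p.Prime → PE p (x ^ n) → x ^ n ∈ S) : x ∈ S := by
  have : zpowers x ≤ S := by
    have hnil : Group.IsNilpotent (zpowers x) := by
      open scoped IsMulCommutative in exact CommGroup.isNilpotent
    refine nil_le hnil fun s hs _ t ht => ?_
    obtain ⟨k, hk⟩ := Oq_pgroup hs (zpowers x) ⟨t, ht⟩
    have h1 := Oq_le s _ ht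
    obtain ⟨n, rfl⟩ := (mem_powers_iff_mem_zpowers).mpr h1
    exact h s n hs ⟨k, congrArg Subtype.val hk⟩
  exact this (mem_zpowers x)

end Cfsg.Agent.F2C
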